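import Cfsg.Agent.Lib.Maximal.UnSubCore

/-!
Unitary forms with a rational structure in small dimension: rational isotropic vectors and hyperbolic pairs.
-/

set_option autoImplicit false
set_option linter.unusedSectionVars false
set_option linter.unusedSimpArgs false

namespace CfsgLib.Maximal.Six

open scoped Matrix

variable {F : Type*} [Field F] {ι : Type} [Fintype ι] [DecidableEq ι] {τ : F ≃+* F}
  {h : (ι → F) → (ι → F) → F} {F₀ : Subfield F} {ζ : F}

/-- A unitary form which is, up to the factor `ζ`, defined over the subfield and has enough rational isotropic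
vectors. -/
structure Rat6 (τ : F ≃+* F) (h : (ι → F) → (ι → F) → F) (F₀ : Subfield F) (ζ : F) : Prop where
  unit : Cfsg.Geo.IsUnitaryForm τ h
  ne : ζ ≠ 0
  rat : ∀ u v : ι → F, RatV F₀ u → RatV F₀ v → ζ * h u v ∈ F₀
  tau_mem : ∀ x ∈ F₀, τ x ∈ F₀
  trace : ∀ v : ι → F, RatV F₀ v → ∃ t ∈ F₀, ζ * t + τ (ζ * t) + ζ * τ ζ * h v v = 0
  iso_two : ∀ p : Fin 2 → ι → F, (∀ i, RatV F₀ (p i)) → ∃ a, RatV F₀ a ∧ a ≠ 0 ∧ h a a = 0 ∧ ∀ i, h a (p i) = 0
  dim : 5 ≤ Fintype.card ι

/-- A rational hyperbolic pair. -/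
structure Hyp (h : (ι → F) → (ι → F) → F) (F₀ : Subfield F) (ζ : F) (u f : ι → F) : Prop where
  left : RatV F₀ u
  right : RatV F₀ f
  isoL : h u u = 0
  isoR : h f f = 0
  one : ζ * h f u = 1

/-- A rational isotropic vector orthogonal to two given vectors. -/
structure InPerp (h : (ι → F) → (ι → F) → F) (F₀ : Subfield F) (u f a : ι → F) : Prop where
  mem : RatV F₀ a
  iso : h a a = 0
  perpL : h a u = 0
  perpR : h a f = 0

omit [Fintype ι] [DecidableEq ι] in
/-- Rational vectors orthogonal to few given vectors. -/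
lemma exists_rat_perp {κ : Type} [Fintype κ] {ι : Type} [Fintype ι] {h' : (ι → F) → (ι → F) → F}
    (hu : Cfsg.Geo.IsUnitaryForm τ h') (hζ : ζ ≠ 0)
    (hrat : ∀ u v : ι → F, RatV F₀ u → RatV F₀ v → ζ * h' u v ∈ F₀) (p : κ → ι → F) (hp : ∀ i, RatV F₀ (p i))
    (hk : Fintype.card κ < Fintype.card ι) :
    ∃ x : ι → F, RatV F₀ x ∧ x ≠ 0 ∧ ∀ i, h' x (p i) = 0 := by
  classical
  let G : (ι → F₀) →ₗ[F₀] (κ → F₀) :=
    { toFun := fun v i => ⟨ζ * h' (fun j => (v j : F)) (p i), hrat _ _ (fun j => (v j).2) (hp i)⟩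
      map_add' := fun u v => funext fun i => Subtype.ext (by
        show ζ * h' ((fun j => (u j : F)) + fun j => (v j : F)) (p i) = _
        rw [hu.add_left, mul_add]; rfl)
      map_smul' := fun c v => funext fun i => Subtype.ext (by
        show ζ * h' ((c : F) • fun j => (v j : F)) (p i) = _
        rw [hu.smul_left, mul_left_comm]; rfl) }
  obtain ⟨v, hv, hv0⟩ := (LinearMap.ker G).exists_mem_ne_zero_of_ne_bot (LinearMap.ker_ne_bot_of_finrank_lt (by simpa))
  refine ⟨fun j => (v j : F), fun j => (v j).2, fun e => hv0 (funext fun j => Subtype.ext (congrFun e j)), fun i => ?_⟩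
  exact (mul_eq_zero.1 (congrArg Subtype.val (congrFun (LinearMap.mem_ker.1 hv) i))).resolve_left hζ

namespace Rat6

variable [Finite F] (hR : Rat6 τ h F₀ ζ)
include hR

omit [Finite F] in
lemma skew0 {u v : ι → F} (huv : h u v = 0) : h v u = 0 := by rw [hR.unit.herm, huv, map_zero]

omit [Finite F] in
lemma tau_inv_mul (x : F) : τ x ∈ F₀ ↔ x ∈ F₀ :=
  ⟨fun hx => by have := hR.tau_mem _ hx; rwa [hR.unit.involutive] at this, hR.tau_mem x⟩

omit [Finite F] in
lemma dual_rat {u : ι → F} (hu : RatV F₀ u) : RatV F₀ (ζ • fvec h u) :=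
  fun _ => hR.rat _ _ (ratV_single _ F₀.one_mem) hu

/-- Every rational functional is the pairing with a rational vector. -/
lemma exists_dual {φ : ι → F} (hφ : RatV F₀ φ) : ∃ x, RatV F₀ x ∧ ∀ y, ζ * h y x = φ ⬝ᵥ y := by
  let G : {v : ι → F // RatV F₀ v} → {v : ι → F // RatV F₀ v} := fun v => ⟨ζ • fvec h v.1, hR.dual_rat v.2⟩
  have hinj : Function.Injective G := fun a b hab => Subtype.ext (un_fvec_injective hR.unit (by
    have := congrArg Subtype.val hab
    exact smul_right_injective _ hR.ne this))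
  obtain ⟨x, hx⟩ := (Finite.injective_iff_surjective.1 hinj) ⟨φ, hφ⟩
  refine ⟨x.1, x.2, fun y => ?_⟩
  rw [← show ζ • fvec h x.1 = φ from congrArg Subtype.val hx, smul_dotProduct, un_dot hR.unit, smul_eq_mul]

lemma ratV_of_pairing {z : ι → F} (hz : ∀ y, RatV F₀ y → ζ * h y z ∈ F₀) : RatV F₀ z := by
  obtain ⟨x, hx, hxy⟩ := hR.exists_dual (φ := ζ • fvec h z) (fun i => hz _ (ratV_single i F₀.one_mem))
  have : z = x := un_eq_of_forall hR.unit fun y => mul_left_cancel₀ hR.ne (by
    rw [hxy, smul_dotProduct, un_dot hR.unit, smul_eq_mul])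
  exact this ▸ hx

omit [Finite F] in
lemma eps_mem : τ ζ / ζ ∈ F₀ := by
  classical
  have hcard := hR.dim
  obtain ⟨i⟩ : Nonempty ι := Fintype.card_pos_iff.1 (by omega)
  obtain ⟨⟨x, hx⟩, -⟩ := hR.unit.nondegenerate (Pi.single i 1) (by simp)
  obtain ⟨j, hj⟩ : ∃ j, h (Pi.single j 1) (Pi.single i 1) ≠ 0 := by
    by_contra! hall
    apply hx
    rw [← un_dot hR.unit, show fvec h (Pi.single i 1) = 0 from funext fun j => hall j, zero_dotProduct]
  have hi : RatV F₀ (Pi.single i 1 : ι → F) := ratV_single i F₀.one_mem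
  have hj' : RatV F₀ (Pi.single j 1 : ι → F) := ratV_single j F₀.one_mem
  have h1 := hR.rat _ _ hj' hi
  have h2 := hR.rat _ _ hi hj'
  rw [hR.unit.herm (Pi.single i 1) (Pi.single j 1)] at h2
  have h3 := F₀.mul_mem (hR.tau_mem _ h1) (F₀.inv_mem h2)
  rw [map_mul] at h3
  convert h3 using 1
  have hne : τ (h (Pi.single j 1) (Pi.single i 1)) ≠ 0 := fun e => hj (τ.injective (by rw [e, map_zero]))
  have := hR.ne
  field_simp

omit [Finite F] in
lemma eps_ne : τ ζ / ζ ≠ 0 :=
  div_ne_zero (fun e => hR.ne (τ.injective (by rw [e, map_zero]))) hR.ne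

omit [Finite F] in
lemma rat_swap {y z : ι → F} (hz : ζ * h z y ∈ F₀) : ζ * h y z ∈ F₀ := by
  have h1 := F₀.mul_mem (F₀.inv_mem hR.eps_mem) (hR.tau_mem _ hz)
  rw [map_mul, ← hR.unit.herm y z] at h1
  convert h1 using 1
  have hne : τ ζ ≠ 0 := fun e => hR.ne (τ.injective (by rw [e, map_zero]))
  have := hR.ne
  field_simp

/-- Rational evaluation vectors. -/
lemma eval {κ : Type*} (p : κ → ι → F) (hp : ∀ i, RatV F₀ (p i)) {x : ι → F} (hx : RatV F₀ x)
    (hind : x ∉ Submodule.span F (Set.range p)) :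
    ∃ y, RatV F₀ y ∧ (∀ i, h y (p i) = 0) ∧ ζ * h y x = 1 := by
  classical
  let G : κ → ι → F₀ := fun i j => ⟨(ζ • fvec h (p i)) j, hR.dual_rat (hp i) j⟩
  let X : ι → F₀ := fun j => ⟨(ζ • fvec h x) j, hR.dual_rat hx j⟩
  have hX : X ∉ Submodule.span F₀ (Set.range G) := by
    intro hmem
    apply hind
    let S : Submodule F₀ (ι → F₀) :=
      { carrier := {φ | ∃ z ∈ Submodule.span F (Set.range p), (fun j => (φ j : F)) = ζ • fvec h z}
        zero_mem' := ⟨0, zero_mem _, funext fun j => by simp [un_fvec_zero hR.unit]⟩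
        add_mem' := by
          rintro φ ψ ⟨z, hz, ez⟩ ⟨w, hw, ew⟩
          refine ⟨z + w, add_mem hz hw, ?_⟩
          rw [un_fvec_add hR.unit, smul_add, ← ez, ← ew]; rfl
        smul_mem' := by
          rintro c φ ⟨z, hz, ez⟩
          refine ⟨τ (c : F) • z, Submodule.smul_mem _ _ hz, ?_⟩
          rw [un_fvec_smul hR.unit, hR.unit.involutive, smul_comm, ← ez]; rfl }
    obtain ⟨z, hz, ez⟩ := (Submodule.span_le (p := S)).2
      (by rintro _ ⟨i, rfl⟩; exact ⟨p i, Submodule.subset_span ⟨i, rfl⟩, rfl⟩) hmem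
    have e : x = z := un_fvec_injective hR.unit (smul_right_injective _ hR.ne
      (show ζ • fvec h x = ζ • fvec h z from ez))
    exact e ▸ hz
  obtain ⟨φ, hφ, hφx⟩ := exists_ann _ _ hX
  have cast : ∀ (q : ι → F₀), ((φ ⬝ᵥ q : F₀) : F) = (fun j => (φ j : F)) ⬝ᵥ (fun j => (q j : F)) := fun q => by
    simp [dotProduct]
  refine ⟨fun j => (φ j : F), fun j => (φ j).2, fun i => ?_, ?_⟩
  · have h1 := congrArg Subtype.val (hφ _ (Submodule.subset_span ⟨i, rfl⟩))
    rw [cast] at h1
    change (fun j => (φ j : F)) ⬝ᵥ (ζ • fvec h (p i)) = 0 at h1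
    rw [dotProduct_smul, dotProduct_comm, un_dot hR.unit, smul_eq_mul] at h1
    exact (mul_eq_zero.1 h1).resolve_left hR.ne
  · have h1 := congrArg Subtype.val hφx
    rw [cast] at h1
    change (fun j => (φ j : F)) ⬝ᵥ (ζ • fvec h x) = 1 at h1
    rwa [dotProduct_smul, dotProduct_comm, un_dot hR.unit, smul_eq_mul] at h1

omit [Finite F] in
lemma sub_smul_left (t : F) (x y v : ι → F) : h (x - t • y) v = h x v - t * h y v := by
  rw [sub_eq_add_neg, ← neg_smul, hR.unit.add_left, hR.unit.smul_left]; ring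

/-- Rationality of pairings extends along rational spans. -/
lemma pairing_of_span {I : Set (ι → F)} (hI : ∀ a ∈ I, RatV F₀ a) {z : ι → F}
    (hz : ∀ a ∈ I, ζ * h a z ∈ F₀) {y : ι → F} (hy : RatV F₀ y) (hmem : y ∈ Submodule.span F I) :
    ζ * h y z ∈ F₀ := by
  classical
  let S₁ : Submodule F₀ (ι → F₀) := Submodule.span F₀ {v | (fun j => (v j : F)) ∈ I}
  have hy₁ : (fun j => (⟨y j, hy j⟩ : F₀)) ∈ S₁ := by
    by_contra hcon
    obtain ⟨φ, hφ, hφy⟩ := exists_ann _ _ hcon
    have hall : ∀ v ∈ Submodule.span F I, (fun j => (φ j : F)) ⬝ᵥ v = 0 := fun v hv => by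
      induction hv using Submodule.span_induction with
      | mem a ha =>
        have h1 := congrArg Subtype.val (hφ _ (Submodule.subset_span
          (show (fun j => (⟨a j, hI a ha j⟩ : F₀)) ∈ {v : ι → F₀ | (fun j => (v j : F)) ∈ I} from ha)))
        simpa [dotProduct] using h1
      | zero => exact dotProduct_zero _
      | add u v _ _ hu hv => rw [dotProduct_add, hu, hv, add_zero]
      | smul c u _ hu => rw [dotProduct_smul, hu, smul_zero]
    have h2 := congrArg Subtype.val hφy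
    have h3 := hall y hmem
    simp [dotProduct] at h2 h3
    rw [h3] at h2
    exact zero_ne_one h2
  have key : ∀ v ∈ S₁, ζ * h (fun j => (v j : F)) z ∈ F₀ := fun v hv => by
    induction hv using Submodule.span_induction with
    | mem v hv => exact hz _ hv
    | zero =>
      rw [show (fun j => (((0 : ι → F₀) j : F₀) : F)) = (0 : ι → F) from rfl, un_zero_left hR.unit, mul_zero]
      exact F₀.zero_mem
    | add u v _ _ hu hv =>
      rw [show (fun j => (((u + v : ι → F₀) j : F₀) : F)) = (fun j => (u j : F)) + fun j => (v j : F) from rfl,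
        hR.unit.add_left, mul_add]
      exact F₀.add_mem hu hv
    | smul c u _ hu =>
      rw [show (fun j => (((c • u : ι → F₀) j : F₀) : F)) = (c : F) • fun j => (u j : F) from rfl,
        hR.unit.smul_left, mul_left_comm]
      exact F₀.mul_mem c.2 hu
  exact key _ hy₁


omit [Finite F] in
lemma sub_left (x y v : ι → F) : h (x - y) v = h x v - h y v := by
  rw [← one_smul F y, hR.sub_smul_left, one_mul, one_smul]

omit [Finite F] in
lemma sub_right (v x y : ι → F) : h v (x - y) = h v x - h v y := by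
  rw [sub_eq_add_neg, ← neg_one_smul F y, un_add_right hR.unit, un_smul_right hR.unit, map_neg, map_one]; ring

/-- A hyperbolic partner orthogonal to given vectors. -/
lemma exists_partner_perp {κ : Type*} (p : κ → ι → F) (hp : ∀ i, RatV F₀ (p i)) {e : ι → F} (he : RatV F₀ e)
    (hee : h e e = 0) (hep : ∀ i, h e (p i) = 0) (hind : e ∉ Submodule.span F (Set.range p)) :
    ∃ f, Hyp h F₀ ζ e f ∧ ∀ i, h f (p i) = 0 := by
  have hf := hR.unit
  obtain ⟨y, hy, hyp, hye⟩ := hR.eval p hp he hind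
  obtain ⟨t, ht, htt⟩ := hR.trace y hy
  refine ⟨y + t • e, ⟨he, hy.addV (he.smul ht), hee, ?_, by rw [hf.add_left, hf.smul_left, hee, mul_zero, add_zero, hye]⟩,
    fun i => by rw [hf.add_left, hf.smul_left, hyp, hep, mul_zero, add_zero]⟩
  have hey : τ ζ * h e y = 1 := by rw [hf.herm, ← map_mul, hye, map_one]
  simp only [hf.add_left, un_add_right hf, hf.smul_left, un_smul_right hf, hee, mul_zero, add_zero]
  refine (mul_eq_zero.1 (?_ : ζ * τ ζ * (h y y + τ t * h y e + t * h e y) = 0)).resolve_left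
    (mul_ne_zero hR.ne (fun e0 => hR.ne (τ.injective (by rw [e0, map_zero]))))
  rw [map_mul] at htt
  linear_combination htt + τ ζ * τ t * hye + ζ * t * hey

lemma exists_hyp {u : ι → F} (hu : RatV F₀ u) (huu : h u u = 0) (hu0 : u ≠ 0) : ∃ f, Hyp h F₀ ζ u f := by
  obtain ⟨f, hf, -⟩ := hR.exists_partner_perp (fun i : Fin 0 => (0 : ι → F)) (fun i => i.elim0) hu huu
    (fun i => i.elim0) (by simpa [Set.range_eq_empty] using hu0)
  exact ⟨f, hf⟩

lemma exists_iso : ∃ u, RatV F₀ u ∧ h u u = 0 ∧ u ≠ 0 := by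
  obtain ⟨u, hu, hu0, huu, -⟩ := hR.iso_two (fun _ => 0) (fun _ => ratV_zero)
  exact ⟨u, hu, huu, hu0⟩

end Rat6

namespace Hyp

variable [Finite F] {u f : ι → F} (P : Hyp h F₀ ζ u f) (hR : Rat6 τ h F₀ ζ)
include P hR

omit [Finite F] hR in
lemma fu_ne : h f u ≠ 0 := fun e => by
  have := P.one
  rw [e, mul_zero] at this
  exact zero_ne_one this

omit [Finite F] in
lemma uf_ne : h u f ≠ 0 := fun e => P.fu_ne (hR.skew0 e)

omit [Finite F] in
lemma ne_left : u ≠ 0 := fun e => P.fu_ne (by rw [e, un_zero_right hR.unit])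

omit [Finite F] in
lemma ne_right : f ≠ 0 := fun e => P.fu_ne (by rw [e, un_zero_left hR.unit])

omit [Finite F] in
/-- The coefficients of a rational vector are rational. -/
lemma coeff_mem {y : ι → F} (hy : RatV F₀ y) : h y f / h u f ∈ F₀ ∧ h y u / h f u ∈ F₀ := by
  constructor
  · have := F₀.div_mem (hR.rat _ _ hy P.right) (hR.rat _ _ P.left P.right)
    rwa [mul_div_mul_left _ _ hR.ne] at this
  · have := F₀.div_mem (hR.rat _ _ hy P.left) (hR.rat _ _ P.right P.left)
    rwa [mul_div_mul_left _ _ hR.ne] at this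

omit [Finite F] in
/-- The projection to the orthogonal space. -/
lemma proj (y : ι → F) :
    h (y - (h y f / h u f) • u - (h y u / h f u) • f) u = 0 ∧
      h (y - (h y f / h u f) • u - (h y u / h f u) • f) f = 0 := by
  simp only [hR.sub_smul_left, P.isoL, P.isoR, mul_zero, sub_zero, div_mul_cancel₀ _ P.fu_ne,
    div_mul_cancel₀ _ (P.uf_ne hR), sub_self, and_self]

omit [Finite F] in
lemma notMem_span {a : ι → F} (ha : a ≠ 0) (hau : h a u = 0) (haf : h a f = 0) :
    a ∉ Submodule.span F (Set.range ![u, f]) := fun hmem => by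
  obtain ⟨c, hc⟩ := (Submodule.mem_span_range_iff_exists_fun F).1 hmem
  rw [Fin.sum_univ_two] at hc
  simp only [Matrix.cons_val_zero, Matrix.cons_val_one] at hc
  rw [← hc, hR.unit.add_left, hR.unit.smul_left, hR.unit.smul_left, P.isoL, mul_zero, zero_add] at hau
  rw [← hc, hR.unit.add_left, hR.unit.smul_left, hR.unit.smul_left, P.isoR, mul_zero, add_zero] at haf
  refine ha ?_
  rw [← hc, (mul_eq_zero.1 hau).resolve_right P.fu_ne, (mul_eq_zero.1 haf).resolve_right (P.uf_ne hR), zero_smul,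
    zero_smul, add_zero]

/-- A hyperbolic pair in the orthogonal space. -/
lemma exists_second : ∃ a b, a ≠ 0 ∧ InPerp h F₀ u f a ∧ InPerp h F₀ u f b ∧ Hyp h F₀ ζ a b := by
  obtain ⟨a, ha, ha0, haa, hap⟩ := hR.iso_two ![u, f] (by intro i; fin_cases i; exacts [P.left, P.right])
  obtain ⟨b, hb, hbp⟩ := hR.exists_partner_perp ![u, f] (by intro i; fin_cases i; exacts [P.left, P.right]) ha haa
    hap (P.notMem_span hR ha0 (hap 0) (hap 1))
  exact ⟨a, b, ha0, ⟨ha, haa, hap 0, hap 1⟩, ⟨hb.right, hb.isoR, hbp 0, hbp 1⟩, hb⟩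

/-- The orthogonal space is spanned by rational isotropic vectors. -/
lemma span_perp {w : ι → F} (hw : RatV F₀ w) (hwu : h w u = 0) (hwf : h w f = 0) :
    w ∈ Submodule.span F {a : ι → F | InPerp h F₀ u f a} := by
  have hf := hR.unit
  obtain ⟨a, b, -, ha, hb, Q⟩ := P.exists_second hR
  obtain ⟨hα, hβ⟩ := Q.coeff_mem hR hw
  obtain ⟨pa, pb⟩ := Q.proj hR w
  set v := w - (h w b / h a b) • a - (h w a / h b a) • b with hv
  have hvr : RatV F₀ v := (hw.sub (ha.mem.smul hα)).sub (hb.mem.smul hβ)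
  have hvu : h v u = 0 := by rw [hv]; simp only [hR.sub_smul_left, hwu, ha.perpL, hb.perpL, mul_zero, sub_zero]
  have hvf : h v f = 0 := by rw [hv]; simp only [hR.sub_smul_left, hwf, ha.perpR, hb.perpR, mul_zero, sub_zero]
  obtain ⟨t, ht, htt⟩ := hR.trace v hvr
  have hiso : InPerp h F₀ u f (b + v + t • a) := by
    refine ⟨(hb.mem.addV hvr).addV (ha.mem.smul ht), ?_, ?_, ?_⟩
    · have h1 : ζ * h b a = 1 := Q.one
      have h2 : τ ζ * h a b = 1 := by rw [hf.herm, ← map_mul, h1, map_one]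
      simp only [hf.add_left, un_add_right hf, hf.smul_left, un_smul_right hf, ha.iso, hb.iso, pa, pb,
        hR.skew0 pa, hR.skew0 pb, mul_zero, add_zero, zero_add]
      refine (mul_eq_zero.1 (?_ : ζ * τ ζ * _ = 0)).resolve_left
        (mul_ne_zero hR.ne (fun e0 => hR.ne (τ.injective (by rw [e0, map_zero]))))
      rw [map_mul] at htt
      linear_combination htt + τ ζ * τ t * h1 + ζ * t * h2
    · simp only [hf.add_left, hf.smul_left, hb.perpL, hvu, ha.perpL, mul_zero, add_zero]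
    · simp only [hf.add_left, hf.smul_left, hb.perpR, hvf, ha.perpR, mul_zero, add_zero]
  have e : w = (b + v + t • a) + (h w b / h a b - t) • a + (h w a / h b a - 1) • b := by rw [hv]; module
  rw [e]
  exact add_mem (add_mem (Submodule.subset_span hiso) (Submodule.smul_mem _ _ (Submodule.subset_span ha)))
    (Submodule.smul_mem _ _ (Submodule.subset_span hb))

/-- A criterion of rationality. -/
lemma ratV_of_perp {z : ι → F} (hu : ζ * h u z ∈ F₀) (hf' : ζ * h f z ∈ F₀)
    (hI : ∀ a, InPerp h F₀ u f a → ζ * h a z ∈ F₀) : RatV F₀ z := by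
  refine hR.ratV_of_pairing fun y hy => ?_
  obtain ⟨hα, hβ⟩ := P.coeff_mem hR hy
  obtain ⟨pu, pf⟩ := P.proj hR y
  refine hR.pairing_of_span (I := {u, f} ∪ {a : ι → F | InPerp h F₀ u f a}) ?_ ?_ hy ?_
  · rintro a ((rfl | rfl) | ha)
    exacts [P.left, P.right, ha.mem]
  · rintro a ((rfl | rfl) | ha)
    exacts [hu, hf', hI a ha]
  · have h1 := Submodule.span_mono (Set.subset_union_right (s := ({u, f} : Set (ι → F))))
      (P.span_perp hR ((hy.sub (P.left.smul hα)).sub (P.right.smul hβ)) pu pf)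
    have h3 := add_mem (add_mem h1 (Submodule.smul_mem _ (h y u / h f u) (Submodule.subset_span (Or.inl (Or.inr rfl)))))
      (Submodule.smul_mem _ (h y f / h u f) (Submodule.subset_span (Or.inl (Or.inl rfl))))
    simpa using h3

end Hyp

namespace Rat6

variable [Finite F] (hR : Rat6 τ h F₀ ζ)
include hR

/-- Rationality is tested on rational isotropic vectors. -/
lemma ratV_of_iso {z : ι → F} (hz : ∀ a, RatV F₀ a → h a a = 0 → ζ * h a z ∈ F₀) : RatV F₀ z := by
  obtain ⟨u, hu, huu, hu0⟩ := hR.exists_iso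
  obtain ⟨f, P⟩ := hR.exists_hyp hu huu hu0
  exact P.ratV_of_perp hR (hz u hu huu) (hz f P.right P.isoR) fun a ha => hz a ha.mem ha.iso

/-- Rational isotropic vectors pair non-trivially with every vector. -/
lemma exists_iso_ne {v : ι → F} (hv : v ≠ 0) : ∃ e, RatV F₀ e ∧ h e e = 0 ∧ h v e ≠ 0 := by
  by_contra! hall
  have hall' : ∀ a, RatV F₀ a → h a a = 0 → h a v = 0 := fun a ha haa => hR.skew0 (hall a ha haa)
  obtain ⟨u, hu, huu, hu0⟩ := hR.exists_iso
  obtain ⟨f, P⟩ := hR.exists_hyp hu huu hu0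
  obtain ⟨⟨y, hy⟩, -⟩ := hR.unit.nondegenerate v hv
  refine hy ?_
  have key : ∀ i, h (Pi.single i 1) v = 0 := fun i => by
    have hi : RatV F₀ (Pi.single i 1 : ι → F) := ratV_single i F₀.one_mem
    obtain ⟨hα, hβ⟩ := P.coeff_mem hR hi
    obtain ⟨pu, pf⟩ := P.proj hR (Pi.single i 1)
    have h1 : ∀ w ∈ Submodule.span F {a : ι → F | InPerp h F₀ u f a}, h w v = 0 := fun w hw => by
      induction hw using Submodule.span_induction with
      | mem a ha => exact hall' a ha.mem ha.iso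
      | zero => exact un_zero_left hR.unit v
      | add a b _ _ p q => rw [hR.unit.add_left, p, q, add_zero]
      | smul t a _ p => rw [hR.unit.smul_left, p, mul_zero]
    have h2 := h1 _ (P.span_perp hR ((hi.sub (P.left.smul hα)).sub (P.right.smul hβ)) pu pf)
    rw [hR.sub_smul_left, hR.sub_smul_left, hall' u hu huu, hall' f P.right P.isoR] at h2
    simpa using h2
  rw [← un_dot hR.unit, show fvec h v = 0 from funext key, zero_dotProduct]

end Rat6

end CfsgLib.Maximal.Six
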