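import Cfsg.Agent.Lib.Maximal.UnSubSix.Short

/-!
An irrational Siegel element in an overgroup gives all transvections.
-/

set_option autoImplicit false
set_option linter.unusedSectionVars false
set_option linter.unusedSimpArgs false

namespace CfsgLib.Maximal.Six

open scoped Matrix

variable {F : Type*} [Field F] {ι : Type} [Fintype ι] [DecidableEq ι] {τ : F ≃+* F}
  {h : (ι → F) → (ι → F) → F} {F₀ : Subfield F} {ζ : F}

namespace Over

variable [Finite F] {H : Subgroup (GL ι F)} (hS : Over τ h F₀ ζ H)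
include hS

omit [Finite F] in
lemma eMap_zero {u : ι → F} {c : F} : eMap h u (0 : ι → F) c = tMap h c u := funext fun x => by
  simp [eMap, tMap, un_zero_right hS.form.unit]

/-- An irrational Siegel element gives an irrational pure parameter. -/
lemma exists_irr (hbig : ¬ Small τ h F₀ H) : ∃ u a x, RatPair h F₀ u a ∧ x ∉ F₀ ∧ KP h ζ H u a x := by
  classical
  have hR := hS.form
  have hf := hR.unit
  unfold Small at hbig
  push Not at hbig
  obtain ⟨u, w, c, hu, huu, hu0, hw, hc, hm, x, hx, hxn⟩ := hbig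
  obtain ⟨f, P⟩ := hR.exists_hyp hu huu hu0
  -- normalise
  set s := h w f / h u f with hs
  set w₁ := w - s • u with hw₁
  set c₁ := c + s - τ s with hc₁
  have e₁ : ∀ y, eMap h u w c y = eMap h u w₁ c₁ y := fun y => by
    rw [show w = w₁ + s • u by rw [hw₁, sub_add_cancel], hR.eMap_shift]
  have hm₁ : HasMap H (eMap h u w₁ c₁) := hm.congr e₁
  have hw₁u : h w₁ u = 0 := by rw [hw₁, hR.sub_smul_left, hw, huu, mul_zero, sub_zero]
  have hw₁f : h w₁ f = 0 := by rw [hw₁, hR.sub_smul_left, hs, div_mul_cancel₀ _ (P.uf_ne hR), sub_self]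
  have hc₁v : c₁ + τ c₁ + h w₁ w₁ = 0 := by
    simp only [hw₁, hR.sub_smul_left, hR.sub_right, un_smul_right hf, huu, hR.skew0 hw, hw, mul_zero, sub_zero]
    rw [hc₁, map_sub, map_add, hf.involutive]
    linear_combination hc
  have key : ∀ {a w' : ι → F} {c' : F}, InPerp h F₀ u f a → a ≠ 0 → h w' u = 0 → c' + τ c' + h w' w' = 0 →
      HasMap H (eMap h u w' c') → h w' a ∉ F₀ → ∃ u a x, RatPair h F₀ u a ∧ x ∉ F₀ ∧ KP h ζ H u a x := by
    intro a w' c' ha ha0 hw' hc' hm' hna
    refine ⟨u, a, 1 * h w' a, ⟨hu, ha.mem, huu, ha.iso, hR.skew0 ha.perpL, hu0, fun hmem => ?_⟩, by rwa [one_mul], ?_⟩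
    · refine P.notMem_span hR ha0 ha.perpL ha.perpR
        (Submodule.span_mono (by intro y hy; exact ⟨0, (Set.mem_singleton_iff.1 hy).symm⟩) hmem)
    · refine hS.double ⟨hu, ha.mem, huu, ha.iso, hR.skew0 ha.perpL, hu0, fun hmem => ?_⟩ hw' hc' hm' F₀.one_mem
      exact P.notMem_span hR ha0 ha.perpL ha.perpR
        (Submodule.span_mono (by intro y hy; exact ⟨0, (Set.mem_singleton_iff.1 hy).symm⟩) hmem)
  by_cases hna : ∃ a, InPerp h F₀ u f a ∧ h w₁ a ∉ F₀
  · obtain ⟨a, ha, hna⟩ := hna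
    exact key ha (fun e => hna (by rw [e, un_zero_right hf]; exact F₀.zero_mem)) hw₁u hc₁v hm₁ hna
  push Not at hna
  -- the translation part is rational
  have hτζ : τ ζ ≠ 0 := fun e => hR.ne (τ.injective (by rw [e, map_zero]))
  set v := ζ⁻¹ • w₁ with hv
  have hwv : w₁ = ζ • v := by rw [hv, smul_inv_smul₀ hR.ne]
  have hvr : RatV F₀ v := by
    refine P.ratV_of_perp hR ?_ ?_ fun a ha => ?_
    · rw [hv, un_smul_right hf, hR.skew0 hw₁u]; simp
    · rw [hv, un_smul_right hf, hR.skew0 hw₁f]; simp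
    · have h1 := F₀.mul_mem (F₀.inv_mem hR.eps_mem) (hR.tau_mem _ (hna a ha))
      convert h1 using 1
      rw [hv, un_smul_right hf, ← hf.herm, map_inv₀]
      have := hR.ne
      field_simp
  have hvu : h v u = 0 := by rw [hv, hf.smul_left, hw₁u, mul_zero]
  obtain ⟨t, ht, htt⟩ := hR.trace (-v) (by rw [← neg_one_smul F v]; exact hvr.smul (F₀.neg_mem F₀.one_mem))
  have h2 := hS.eMap_add huu hw₁u (by rw [← neg_one_smul F v, smul_smul, hf.smul_left, hvu, mul_zero]) hm₁
    (hS.eMap_mem hu huu (by rw [← neg_one_smul F v]; exact hvr.smul (F₀.neg_mem F₀.one_mem))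
      (by rw [← neg_one_smul F v, hf.smul_left, hvu, mul_zero]) ht htt)
  rw [smul_neg, ← hwv, add_neg_cancel, ← neg_one_smul F w₁, hf.smul_left] at h2
  set c₂ := c₁ + ζ * t - -1 * h w₁ w₁ with hc₂
  have htt' : ζ * t + τ (ζ * t) + ζ * τ ζ * h v v = 0 := by
    rw [← neg_one_smul F v, hf.smul_left, un_smul_right hf, map_neg, map_one] at htt
    linear_combination htt
  have hww : h w₁ w₁ = ζ * τ ζ * h v v := by rw [hwv, hf.smul_left, un_smul_right hf]; ring
  have hc₂τ : τ c₂ = -c₂ := by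
    rw [hc₂, map_sub, map_add, map_mul _ (-1 : F), map_neg, map_one, ← hf.herm]
    rw [hww] at hc₁v ⊢
    linear_combination hc₁v + htt'
  have hc₂n : c₂ / ζ ∉ F₀ := fun hmem => hxn (by
    rw [e₁, hwv, show c₁ = ζ * (c₂ / ζ - t - τ ζ / ζ * (ζ * h v v)) by
      rw [hc₂, hww]
      have := hR.ne
      field_simp
      ring]
    exact hR.eMap_rat hu hvr (F₀.sub_mem (F₀.sub_mem hmem ht)
      (F₀.mul_mem hR.eps_mem (hR.rat _ _ hvr hvr))) hx)
  -- move the transvection
  obtain ⟨a, b, ha0, ha, hb, Q⟩ := P.exists_second hR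
  have mv : ∀ {p q v' : ι → F}, RatV F₀ q → h q q = 0 → RatV F₀ v' → h v' q = 0 → h v' v' = 0 →
      HasMap H (eMap h p 0 c₂) → HasMap H (eMap h (p + (ζ * h p q) • v' - (τ ζ * h p v') • q) 0 c₂) := by
    intro p q v' hq hqq hv' hv'q hv'v' hp
    obtain ⟨g, hg, eg⟩ := hS.eMap_mem hq hqq hv' hv'q F₀.zero_mem (by rw [hv'v']; simp)
    have h3 := hS.eMap_conj hp hg
    rw [Matrix.mulVec_zero, eg] at h3
    convert h3 using 2
    simp only [eMap, un_smul_right hf, smul_smul, mul_zero, zero_mul, zero_sub, neg_smul]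
    rw [mul_comm ζ (h p q)]
    abel
  have hσ : ζ * h u f ∈ F₀ := hR.rat _ _ hu P.right
  have hρ : ζ * h a b ∈ F₀ := hR.rat _ _ ha.mem hb.mem
  have hu1 : HasMap H (eMap h (u + a) 0 c₂) := by
    have h4 := mv P.right P.isoR (ha.mem.smul (F₀.inv_mem hσ)) (by rw [hf.smul_left, ha.perpR, mul_zero])
      (by rw [hf.smul_left, un_smul_right hf, ha.iso]; simp) h2
    rwa [un_smul_right hf, hR.skew0 ha.perpL, mul_zero, mul_zero, zero_smul, sub_zero, smul_smul,
      mul_inv_cancel₀ (mul_ne_zero hR.ne (P.uf_ne hR)), one_smul] at h4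
  have ha1 : HasMap H (eMap h a 0 c₂) := by
    have h5 := mv hb.mem hb.iso (hu.smul (F₀.inv_mem (F₀.neg_mem hρ))) (by rw [hf.smul_left, hR.skew0 hb.perpL, mul_zero])
      (by rw [hf.smul_left, un_smul_right hf, huu]; simp) hu1
    have hub : h u b = 0 := hR.skew0 hb.perpL
    rw [un_smul_right hf, hf.add_left, hf.add_left, huu, ha.perpL, hub, zero_add, add_zero, mul_zero, mul_zero,
      zero_smul, sub_zero, smul_smul, show ζ * h a b * (-(ζ * h a b))⁻¹ = -1 by
        rw [inv_neg, mul_neg, mul_inv_cancel₀ (mul_ne_zero hR.ne (Q.uf_ne hR))], neg_one_smul,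
      show u + a + -u = a by abel] at h5
    exact h5
  have hc₂0 : c₂ + τ c₂ = 0 := by rw [hc₂τ, add_neg_cancel]
  have inv : ∀ {p : ι → F}, h p p = 0 → HasMap H (eMap h p 0 c₂) → HasMap H (eMap h p 0 (-c₂)) := fun {p} hpp hp => by
    have h6 := hS.eMap_neg hpp (un_zero_left hf p) (by rw [un_zero_left hf, add_zero, hc₂0]) hp
    rwa [neg_zero, hc₂τ] at h6
  have hm₂ : HasMap H (eMap h u (c₂ • a) 0) := by
    refine ((hu1.comp (inv huu h2)).comp (inv ha.iso ha1)).congr fun y => ?_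
    simp only [Function.comp, eMap, un_zero_right hf, un_smul_right hf, sub_zero, smul_zero, add_zero, hf.add_left,
      hf.smul_left, un_add_right hf, huu, ha.iso, ha.perpL, hR.skew0 ha.perpL, mul_zero, hc₂τ]
    module
  refine key hb (fun e => Q.uf_ne hR (by rw [e, un_zero_right hf])) (w' := c₂ • a) (c' := 0)
    (by rw [hf.smul_left, ha.perpL, mul_zero]) (by rw [hf.smul_left, un_smul_right hf, ha.iso]; simp) hm₂ fun hmem => hc₂n ?_
  have := F₀.mul_mem hmem (F₀.inv_mem hρ)
  rw [hf.smul_left] at this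
  convert this using 1
  have := hR.ne
  have := Q.uf_ne hR
  field_simp

section big

variable [Fintype F] {r : ℕ}

/-- A larger Siegel group gives all transvections. -/
lemma full_of_big (hr : r.Prime) (hcard : Fintype.card F = Nat.card F₀ ^ r)
    (hfour : r = 2 ∨ ∀ p : Fin 4 → ι → F, (∀ i, RatV F₀ (p i)) →
      ∃ a, RatV F₀ a ∧ a ≠ 0 ∧ h a a = 0 ∧ ∀ i, h a (p i) = 0)
    (hbig : ¬ Small τ h F₀ H) :
    ∀ (v : ι → F) (k : F), h v v = 0 → τ k = -k → HasMap H (tMap h k v) := by
  classical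
  have hR := hS.form
  have hf := hR.unit
  obtain ⟨u₁, a₁, x₁, P₁, hx₁F, hx₁⟩ := hS.exists_irr hbig
  have all := hS.all_params hr hcard hfour P₁ hx₁F hx₁
  have short : ∀ (μ : F) (u a : ι → F), RatPair h F₀ u a → HasMap H (eMap h u (μ • a) 0) := fun μ u a P => by
    have h1 := all (μ / ζ) u a P
    rwa [KP, mul_div_cancel₀ _ hR.ne] at h1
  obtain ⟨u₀, hu₀⟩ : ∃ u : F, u + τ u ≠ 0 := by
    by_contra hcon
    push Not at hcon
    refine hf.ne_refl (RingEquiv.ext fun x => ?_)
    have h1 := hcon 1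
    rw [map_one] at h1
    show τ x = x
    linear_combination hcon x - x * h1
  have hu₀' : τ (u₀ + τ u₀) = u₀ + τ u₀ := by rw [map_add, hf.involutive, add_comm]
  have hpair : ∀ {u f a : ι → F}, Hyp h F₀ ζ u f → InPerp h F₀ u f a → a ≠ 0 → RatPair h F₀ u a :=
    fun {u f a} P ha ha0 => ⟨P.left, ha.mem, P.isoL, ha.iso, hR.skew0 ha.perpL, P.ne_left hR, fun hmem =>
      P.notMem_span hR ha0 ha.perpL ha.perpR
        (Submodule.span_mono (by intro y hy; exact ⟨0, (Set.mem_singleton_iff.1 hy).symm⟩) hmem)⟩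
  have trans : ∀ {u : ι → F}, RatV F₀ u → h u u = 0 → u ≠ 0 → ∀ k, τ k = -k → HasMap H (eMap h u 0 k) := by
    intro u hu huu hu0 k hk
    obtain ⟨f, P⟩ := hR.exists_hyp hu huu hu0
    obtain ⟨a, b, ha0, ha, hb, Q⟩ := P.exists_second hR
    have hb0 : b ≠ 0 := Q.ne_right hR
    set X := k * u₀ / (u₀ + τ u₀) with hX
    have hkX : k = X - τ X := by
      rw [hX, map_div₀, map_mul, hu₀', hk]; field_simp; ring
    set μ := X / h a b with hμ
    have hμX : μ * h a b = X := by rw [hμ, div_mul_cancel₀ _ (Q.uf_ne hR)]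
    have P1 := hpair P ha ha0
    have P2 := hpair P hb hb0
    have hw : h (μ • a + (1 : F) • b) u = 0 := by
      simp [hf.add_left, hf.smul_left, ha.perpL, hb.perpL]
    have h1 := hS.eMap_add huu (by rw [hf.smul_left, ha.perpL, mul_zero]) (by rw [hf.smul_left, hb.perpL, mul_zero])
      (short μ u a P1) (short 1 u b P2)
    have h2 := hS.eMap_add huu (by rw [hf.smul_left, ha.perpL, mul_zero]) (by rw [hf.smul_left, hb.perpL, mul_zero])
      (short (-μ) u a P1) (short (-1) u b P2)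
    have h3 := hS.eMap_add huu hw (by rw [hf.add_left, hf.smul_left, hf.smul_left, ha.perpL, hb.perpL]; ring) h1 h2
    have hba : h b a = τ (h a b) := hf.herm b a
    convert h3 using 2
    · module
    · simp only [hf.add_left, un_add_right hf, hf.smul_left, un_smul_right hf, ha.iso, hb.iso, map_neg, map_one]
      rw [hkX, ← hμX, map_mul, hba]
      ring
  have full : ∀ {u f : ι → F}, Hyp h F₀ ζ u f → ∀ {w : ι → F}, h w u = 0 → h w f = 0 →
      ∀ c, c + τ c + h w w = 0 → HasMap H (eMap h u w c) := by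
    intro u f P
    have huu := P.isoL
    have tr := fun k hk => trans P.left huu (P.ne_left hR) k hk
    have WOK : ∀ w ∈ Submodule.span F {a : ι → F | InPerp h F₀ u f a}, ∀ t : F,
        h (t • w) u = 0 ∧ ∀ c, c + τ c + h (t • w) (t • w) = 0 → HasMap H (eMap h u (t • w) c) := by
      intro w hw
      induction hw using Submodule.span_induction with
      | mem a ha =>
        refine fun t => ⟨by rw [hf.smul_left, ha.perpL, mul_zero], fun c hc => ?_⟩
        rw [hf.smul_left, un_smul_right hf, ha.iso, mul_zero, mul_zero, add_zero] at hc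
        have h2 := tr c (eq_neg_of_add_eq_zero_right hc)
        by_cases ha0 : a = 0
        · rw [ha0, smul_zero]; exact h2
        · have h3 := hS.eMap_add huu (by rw [hf.smul_left, ha.perpL, mul_zero]) (un_zero_left hf u)
            (short t u a (hpair P ha ha0)) h2
          rwa [add_zero, zero_add, un_zero_left hf, sub_zero] at h3
      | zero =>
        refine fun t => ⟨by rw [smul_zero, un_zero_left hf], fun c hc => ?_⟩
        rw [smul_zero] at hc ⊢
        rw [un_zero_left hf, add_zero] at hc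
        exact tr c (eq_neg_of_add_eq_zero_right hc)
      | add w₁ w₂ _ _ p q =>
        intro t
        obtain ⟨hw₁, hq₁⟩ := p t
        obtain ⟨hw₂, hq₂⟩ := q t
        rw [smul_add]
        set A₁ := t • w₁
        set A₂ := t • w₂
        refine ⟨by rw [hf.add_left, hw₁, hw₂, add_zero], fun c hc => ?_⟩
        set c₁ := -(h A₁ A₁) * u₀ / (u₀ + τ u₀) with hc₁
        have hv₁ : c₁ + τ c₁ + h A₁ A₁ = 0 := by
          rw [hc₁, map_div₀, map_mul, map_neg, hu₀', ← hf.herm A₁ A₁]; field_simp; ring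
        have hv₂ : (c - c₁ + h A₂ A₁) + τ (c - c₁ + h A₂ A₁) + h A₂ A₂ = 0 := by
          rw [map_add, map_sub, ← hf.herm A₁ A₂]
          rw [hf.add_left, un_add_right hf, un_add_right hf] at hc
          linear_combination hc - hv₁
        have h4 := hS.eMap_add huu hw₁ hw₂ (hq₁ c₁ hv₁) (hq₂ _ hv₂)
        rwa [show c₁ + (c - c₁ + h A₂ A₁) - h A₂ A₁ = c by ring] at h4
      | smul s a _ p => intro t; rw [smul_smul]; exact p _
    intro w hwu hwf c hc
    have hw : w ∈ Submodule.span F {a : ι → F | InPerp h F₀ u f a} := by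
      have hlin : ∀ (y : ι → F), y = ∑ i, y i • (Pi.single i 1 : ι → F) := fun y => pi_eq_sum_univ' y
      let p : (ι → F) →ₗ[F] (ι → F) :=
        { toFun := fun y => y - (h y f / h u f) • u - (h y u / h f u) • f
          map_add' := fun y z => by simp only [hf.add_left, add_div]; module
          map_smul' := fun s y => by simp only [hf.smul_left, mul_div_assoc, RingHom.id_apply]; module }
      have hpw : p w = w := by simp [p, hwu, hwf]
      rw [← hpw, hlin w, map_sum]
      refine Submodule.sum_mem _ fun i _ => ?_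
      rw [map_smul]
      have hi : RatV F₀ (Pi.single i 1 : ι → F) := ratV_single i F₀.one_mem
      obtain ⟨hα, hβ⟩ := P.coeff_mem hR hi
      obtain ⟨pu, pf⟩ := P.proj hR (Pi.single i 1)
      exact Submodule.smul_mem _ _ (P.span_perp hR ((hi.sub (P.left.smul hα)).sub (P.right.smul hβ)) pu pf)
    have h5 := WOK w hw 1
    rw [one_smul] at h5
    exact h5.2 c hc
  -- every isotropic point
  intro v k hvv hk
  rcases eq_or_ne v 0 with rfl | hv0
  · exact hasMap_id.congr fun x => by simp [tMap]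
  obtain ⟨e, he, hee, hve⟩ := hR.exists_iso_ne hv0
  have he0 : e ≠ 0 := fun e0 => hve (by rw [e0, un_zero_right hf])
  obtain ⟨f₀, P₀⟩ := hR.exists_hyp he hee he0
  have hf₀ := P₀.right
  have hf₀f := P₀.isoR
  have hf₀e := P₀.one
  have hef : h f₀ e ≠ 0 := fun e0 => by rw [e0, mul_zero] at hf₀e; exact zero_ne_one hf₀e
  set f₁ := ζ • f₀ with hf₁
  have hfe : h f₁ e = 1 := by rw [hf₁, hf.smul_left, hf₀e]
  have hff : h f₁ f₁ = 0 := by rw [hf₁, hf.smul_left, un_smul_right hf, hf₀f]; simp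
  have hef₁ : h e f₁ = 1 := by rw [hf.herm, hfe, map_one]
  set ρ := h v e
  set v' := ρ⁻¹ • v with hv'
  have hv'e : h v' e = 1 := by rw [hv', hf.smul_left]; exact inv_mul_cancel₀ hve
  set γ := h v' f₁ with hγ
  set w := v' - f₁ - γ • e with hw
  have hwe : h w e = 0 := by
    simp only [hw, sub_eq_add_neg, ← neg_one_smul F f₁, ← neg_smul, hf.add_left, hf.smul_left, hv'e, hfe, hee]
    ring
  have hwf : h w f₁ = 0 := by
    simp only [hw, sub_eq_add_neg, ← neg_one_smul F f₁, ← neg_smul, hf.add_left, hf.smul_left, ← hγ, hff, hef₁]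
    ring
  have hwf₀ : h w f₀ = 0 := by
    rw [hf₁, un_smul_right hf] at hwf
    exact (mul_eq_zero.1 hwf).resolve_left fun e0 => hR.ne (τ.injective (by rw [e0, map_zero]))
  have hval : γ + τ γ + h w w = 0 := by
    have h1 : h v' v' = 0 := by rw [hv', hf.smul_left, un_smul_right hf, hvv]; simp
    have e1 : v' = f₁ + γ • e + w := by rw [hw]; abel
    rw [e1] at h1
    simp only [hf.add_left, un_add_right hf, hf.smul_left, un_smul_right hf, hff, hee, hfe, hef₁, hwe, hwf,
      hR.skew0 hwe, hR.skew0 hwf] at h1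
    linear_combination h1
  have hE := full P₀ hwe hwf₀ γ hval
  obtain ⟨g, hg, eg⟩ := hE
  have hgf : Units.val g *ᵥ f₁ = v' := by
    rw [eg, eMap, hfe, hR.skew0 hwf, hw]; module
  have hk' : τ (k * ρ * τ ρ * (ζ * τ ζ)) = -(k * ρ * τ ρ * (ζ * τ ζ)) := by
    simp only [map_mul, hf.involutive, hk]; ring
  obtain ⟨g₂, hg₂, e₂⟩ := trans hf₀ hf₀f (Hyp.ne_right P₀ hR) (k * ρ * τ ρ * (ζ * τ ζ)) hk'
  refine ⟨g * g₂ * g⁻¹, mul_mem (mul_mem hg hg₂) (inv_mem hg), fun y => ?_⟩
  obtain ⟨x, rfl⟩ := mulVec_surj g y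
  simp only [Units.val_mul, ← Matrix.mulVec_mulVec]
  rw [Matrix.mulVec_mulVec x, ← Units.val_mul, inv_mul_cancel, Units.val_one, Matrix.one_mulVec, e₂]
  rw [hS.eMap_zero]
  simp only [tMap, Matrix.mulVec_add, Matrix.mulVec_smul]
  have hv : v = ρ • v' := by rw [hv', smul_inv_smul₀ hve]
  have hvf : Units.val g *ᵥ f₀ = ζ⁻¹ • v' := by
    rw [← hgf, hf₁, Matrix.mulVec_smul, inv_smul_smul₀ hR.ne]
  have hxf : h x f₀ = h (Units.val g *ᵥ x) (Units.val g *ᵥ f₀) := (suH_iso (hS.le hg) x f₀).symm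
  rw [hxf, hvf, hv]
  simp only [un_smul_right hf, smul_smul, map_inv₀]
  have hτζ : τ ζ ≠ 0 := fun e0 => hR.ne (τ.injective (by rw [e0, map_zero]))
  have := hR.ne
  match_scalars <;> field_simp

end big

end Over

end CfsgLib.Maximal.Six
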