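import Cfsg.Agent.Lib.Maximal.UnSubSix.Rigid
import Cfsg.Agent.Lib.Maximal.UnSubSix.Full
import Cfsg.Agent.Lib.Maximal.SubfieldMain
import Cfsg.Agent.Lib.PSL2.DicksonGen

/-!
Images of rational isotropic lines under an overgroup with rational Siegel elements only.
-/

set_option autoImplicit false
set_option linter.unusedSectionVars false
set_option linter.unusedSimpArgs false

namespace CfsgLib.Maximal.Six

open scoped Matrix

variable {F : Type*} [Field F] {ι : Type} [Fintype ι] [DecidableEq ι] {τ : F ≃+* F}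
  {h : (ι → F) → (ι → F) → F} {F₀ : Subfield F} {ζ : F}

namespace Rat6

variable [Finite F] (hR : Rat6 τ h F₀ ζ)
include hR

/-- A vector of a rational subspace outside a smaller one pairs with a rational vector orthogonal to the latter. -/
lemma exists_dual_ind (S : Submodule F₀ (ι → F₀)) {w : ι → F₀} (hw : w ∉ S) :
    ∃ x, RatV F₀ x ∧ (∀ s ∈ S, h (fun i => (s i : F)) x = 0) ∧ h (fun i => (w i : F)) x ≠ 0 := by
  obtain ⟨φ, hφ, hφw⟩ := exists_ann _ _ hw
  obtain ⟨x, hx, hxy⟩ := hR.exists_dual (φ := fun j => (φ j : F)) fun j => (φ j).2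
  have cast : ∀ q : ι → F₀, ζ * h (fun j => (q j : F)) x = ((φ ⬝ᵥ q : F₀) : F) := fun q => by
    rw [hxy]; simp [dotProduct]
  refine ⟨x, hx, fun s hs => ?_, fun e => ?_⟩
  · have := cast s
    rw [hφ s hs] at this
    exact (mul_eq_zero.1 this).resolve_left hR.ne
  · have := cast w
    rw [hφw, e, mul_zero] at this
    exact zero_ne_one this

end Rat6

namespace Over

variable [Finite F] {H : Subgroup (GL ι F)} (hS : Over τ h F₀ ζ H)
include hS

/-- A centre orthogonal to a rational isotropic vector lies on a rational line. -/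
lemma line_of_perp (hsm : Small τ h F₀ H) {v : ι → F} (hv0 : v ≠ 0) {k : F} (hk : k ≠ 0)
    (hX : HasMap H (tMap h k v)) {d : ι → F} (hd : RatV F₀ d) (hdd : h d d = 0) (hd0 : d ≠ 0)
    (hdv : h d v = 0) : RatLine F₀ v := by
  classical
  have hf := hS.form.unit
  obtain ⟨X, hX, eX⟩ := hX
  have hXd : Units.val X *ᵥ d = d := by rw [eX, tMap, hdv]; simp
  have hrat := hS.rigid hsm hX one_ne_zero hd hdd hd0 (by rw [one_smul, hXd]; exact hd)
  rw [one_smul] at hrat
  obtain ⟨j, hj⟩ : ∃ j, h (Pi.single j 1) v ≠ 0 := by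
    by_contra! hall
    exact hv0 (un_fvec_injective hf ((show fvec h v = 0 from funext hall).trans (un_fvec_zero hf).symm))
  refine ⟨k * h (Pi.single j 1) v, mul_ne_zero hk hj, ?_⟩
  have := (hrat.sub ratM_one).mulVec (ratV_single j F₀.one_mem)
  rwa [Matrix.sub_mulVec, Matrix.one_mulVec, eX, tMap, add_sub_cancel_left] at this

/-- Quadratic extensions: the image of a rational isotropic vector lies on a rational line. -/
lemma quad_line (hsm : Small τ h F₀ H) (hfr : Module.finrank F₀ F = 2) (hn : 6 ≤ Fintype.card ι) {g : GL ι F}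
    (hg : g ∈ H) {a : ι → F} (ha : RatV F₀ a) (haa : h a a = 0) (ha0 : a ≠ 0)
    (hfix : ∃ d, RatV F₀ d ∧ h d d = 0 ∧ d ≠ 0 ∧ h d (Units.val g *ᵥ a) = 0) : RatLine F₀ (Units.val g *ᵥ a) := by
  classical
  have hR := hS.form
  have hf := hR.unit
  have hgi := suH_iso (hS.le hg)
  obtain ⟨d, hd, hdd, hd0, hdv⟩ := hfix
  set v := Units.val g *ᵥ a with hv
  let up : (ι → F₀) → ι → F := fun u i => (u i : F)
  have hup : ∀ u, RatV F₀ (up u) := fun u i => (u i).2
  let a' : ι → F₀ := fun i => ⟨a i, ha i⟩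
  let L : (ι → F₀) →ₗ[F₀] F₀ × F :=
    { toFun := fun w => (⟨ζ * h (up w) a, hR.rat _ _ (hup w) ha⟩, h (Units.val g *ᵥ up w) d)
      map_add' := fun x y => by
        have e : up (x + y) = up x + up y := rfl
        refine Prod.ext (Subtype.ext ?_) ?_
        · show ζ * h (up (x + y)) a = _
          rw [e, hf.add_left, mul_add]; rfl
        · show h (Units.val g *ᵥ up (x + y)) d = _
          rw [e, Matrix.mulVec_add, hf.add_left]; rfl
      map_smul' := fun s x => by
        have e : up (s • x) = (s : F) • up x := rfl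
        refine Prod.ext (Subtype.ext ?_) ?_
        · show ζ * h (up (s • x)) a = _
          rw [e, hf.smul_left, mul_left_comm]; rfl
        · show h (Units.val g *ᵥ up (s • x)) d = _
          rw [e, Matrix.mulVec_smul, hf.smul_left]; rfl }
  set W := LinearMap.ker L with hW
  have hW3 : 3 ≤ Module.finrank F₀ W := by
    show 3 ≤ Module.finrank F₀ (LinearMap.ker L)
    have h1 := LinearMap.finrank_range_add_finrank_ker L
    have h2 := Submodule.finrank_le (LinearMap.range L)
    simp only [Module.finrank_fintype_fun_eq_card, Module.finrank_prod, Module.finrank_self, hfr] at h1 h2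
    omega
  have mem : ∀ {w}, w ∈ W → h (up w) a = 0 ∧ h d (Units.val g *ᵥ up w) = 0 := fun {w} hw => by
    have h1 := congrArg Prod.fst (LinearMap.mem_ker.1 hw)
    have h2 := congrArg Prod.snd (LinearMap.mem_ker.1 hw)
    exact ⟨(mul_eq_zero.1 (congrArg Subtype.val h1)).resolve_left hR.ne, hR.skew0 h2⟩
  -- the rational element of a vector of the subspace
  have elt : ∀ {w}, w ∈ W → ∃ (R : Matrix ι ι F) (t : F), RatM F₀ R ∧ ζ * t + τ (ζ * t) + ζ * τ ζ * h (up w) (up w) = 0 ∧
      ∀ x, R *ᵥ x = (ζ * t * h x v - h x (ζ • (Units.val g *ᵥ up w))) • v + h x v • ζ • (Units.val g *ᵥ up w) := by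
    intro w hw
    obtain ⟨t, ht, htt⟩ := hR.trace (up w) (hup w)
    obtain ⟨R, hRH, eR⟩ := hS.eMap_conj (hS.eMap_mem ha haa (hup w) (mem hw).1 ht htt) hg
    have hRd : Units.val R *ᵥ d = d := by
      rw [eR, eMap, Matrix.mulVec_smul, un_smul_right hf, ← hv, hdv, (mem hw).2]; simp
    have hrat := hS.rigid hsm hRH one_ne_zero hd hdd hd0 (by rw [one_smul, hRd]; exact hd)
    rw [one_smul] at hrat
    refine ⟨Units.val R - 1, t, hrat.sub ratM_one, htt, fun x => ?_⟩
    rw [Matrix.sub_mulVec, Matrix.one_mulVec, eR, eMap, Matrix.mulVec_smul, ← hv]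
    abel
  have hvv : h v v = 0 := by rw [hv, hgi, haa]
  have hvw : ∀ {w}, w ∈ W → h (Units.val g *ᵥ up w) v = 0 := fun {w} hw => by rw [hv, hgi]; exact (mem hw).1
  have hv0 : v ≠ 0 := fun e => ha0 (mulVec_inj g (show Units.val g *ᵥ a = Units.val g *ᵥ 0 by
    rw [Matrix.mulVec_zero]; exact e))
  obtain ⟨j, hj⟩ : ∃ j, h (Pi.single j 1) v ≠ 0 := by
    by_contra! hall
    exact hv0 (un_fvec_injective hf ((show fvec h v = 0 from funext hall).trans (un_fvec_zero hf).symm))
  have hj' : RatV F₀ (Pi.single j 1 : ι → F) := ratV_single j F₀.one_mem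
  by_cases han : ∃ w ∈ W, h (up w) (up w) ≠ 0
  · obtain ⟨w, hw, hww⟩ := han
    obtain ⟨R, t, hRr, -, eR⟩ := elt hw
    have h2 := (hRr.mul hRr).mulVec hj'
    rw [← Matrix.mulVec_mulVec, eR] at h2
    refine ⟨-(τ ζ * ζ * h (Pi.single j 1) v * h (up w) (up w)), ?_, ?_⟩
    · have : τ ζ ≠ 0 := fun e => hR.ne (τ.injective (by rw [e, map_zero]))
      exact neg_ne_zero.2 (mul_ne_zero (mul_ne_zero (mul_ne_zero this hR.ne) hj) hww)
    · convert h2 using 1
      simp only [eR, hf.add_left, hf.smul_left, hvv, hR.skew0 (hvw hw), hvw hw, un_smul_right hf, hgi]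
      module
  push Not at han
  let S₁ : Submodule F₀ (ι → F₀) := F₀ ∙ a'
  obtain ⟨w, hw, hwS⟩ : ∃ w ∈ W, w ∉ S₁ := by
    by_contra! hcon
    have h1 := Submodule.finrank_mono (hcon : W ≤ S₁)
    have h2 : Module.finrank F₀ S₁ ≤ 1 := (finrank_span_le_card _).trans (by simp)
    omega
  let S₂ : Submodule F₀ (ι → F₀) := Submodule.span F₀ {a', w}
  obtain ⟨w', hw', hw'S⟩ : ∃ w' ∈ W, w' ∉ S₂ := by
    by_contra! hcon
    have h1 := Submodule.finrank_mono (hcon : W ≤ S₂)
    have h2 : Module.finrank F₀ S₂ ≤ 2 := (finrank_span_le_card _).trans (by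
      rw [Set.toFinset_insert, Set.toFinset_singleton]; exact Finset.card_le_two)
    omega
  obtain ⟨x₀, -, hx₀S, hx₀w⟩ := hR.exists_dual_ind S₁ hwS
  obtain ⟨x₁, -, hx₁S, hx₁w⟩ := hR.exists_dual_ind S₂ hw'S
  have hx₀a : h a x₀ = 0 := hx₀S a' (Submodule.mem_span_singleton_self _)
  have hx₁a : h a x₁ = 0 := hx₁S a' (Submodule.subset_span (by simp))
  have hx₁w0 : h (up w) x₁ = 0 := hx₁S w (Submodule.subset_span (by simp))
  obtain ⟨R, t, hRr, htt, eR⟩ := elt hw
  obtain ⟨R', t', hR'r, -, eR'⟩ := elt hw'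
  set y₁ := Units.val g *ᵥ x₁ with hy₁
  have hvy : h v y₁ = 0 := by rw [hv, hy₁, hgi, hx₁a]
  set col : ι → ι → F := fun i => R *ᵥ Pi.single i 1 with hcol
  set c₂ := R' *ᵥ Pi.single j 1 with hc₂
  have hc₂n : c₂ ∉ Submodule.span F (Set.range col) := fun hmem => by
    have key : ∀ y ∈ Submodule.span F (Set.range col), h y y₁ = 0 := fun y hy => by
      induction hy using Submodule.span_induction with
      | mem y hy =>
        obtain ⟨i, rfl⟩ := hy
        rw [hcol]
        simp only [eR, hf.add_left, hf.smul_left, hy₁, show h v (Units.val g *ᵥ x₁) = 0 from hvy, hgi, hx₁w0, mul_zero, add_zero]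
      | zero => exact un_zero_left hf _
      | add y z _ _ p q => rw [hf.add_left, p, q, add_zero]
      | smul s y _ p => rw [hf.smul_left, p, mul_zero]
    have h1 := key _ hmem
    rw [hc₂, eR', hf.add_left, hf.smul_left, hf.smul_left, hf.smul_left, hvy, hy₁, hgi, mul_zero, zero_add] at h1
    exact mul_ne_zero hj (mul_ne_zero hR.ne hx₁w) h1
  obtain ⟨z, hz, hzp, hzc⟩ := hR.eval col (fun i => hRr.mulVec (ratV_single i F₀.one_mem))
    (hR'r.mulVec hj') hc₂n
  have hzR : ∀ x, h z (R *ᵥ x) = 0 := fun x => by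
    rw [pi_eq_sum_univ' x, Matrix.mulVec_sum]
    refine Finset.sum_induction _ (fun y => h z y = 0) (fun y y' p q => by rw [un_add_right hf, p, q, add_zero])
      (un_zero_right hf z) fun i _ => ?_
    rw [Matrix.mulVec_smul, un_smul_right hf, hzp i, mul_zero]
  have hzv : h z v = 0 := by
    have h1 := hzR (Units.val g *ᵥ x₀)
    rw [eR, un_add_right hf, un_smul_right hf, un_smul_right hf, un_smul_right hf, hv, hgi, hR.skew0 hx₀a,
      un_smul_right hf, hgi] at h1
    simp only [mul_zero, zero_sub, map_neg, map_zero, zero_mul, add_zero, neg_mul, neg_eq_zero, mul_eq_zero] at h1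
    refine h1.resolve_left fun e => ?_
    rw [map_mul, hf.involutive, mul_eq_zero] at e
    exact e.elim hR.ne fun e' => hx₀w (hR.skew0 ((τ.map_eq_zero_iff).1 e'))
  set K := h z (Units.val g *ᵥ up w') with hK
  have val : ∀ y, h z (R' *ᵥ y) = τ (h y v) * (τ ζ * K) := fun y => by
    simp only [eR', un_add_right hf, un_smul_right hf, hzv, mul_zero, zero_add, hK]
  refine ⟨τ ζ * K, mul_ne_zero (fun e => hR.ne (τ.injective (by rw [e, map_zero]))) fun e => ?_, hR.ratV_of_pairing fun y hy => ?_⟩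
  · rw [val, e, mul_zero, mul_zero, mul_zero] at hzc
    exact zero_ne_one hzc
  · have h1 := F₀.mul_mem (F₀.inv_mem hR.eps_mem) (hR.tau_mem _ (hR.rat _ _ hz (hR'r.mulVec hy)))
    rw [val, map_mul, map_mul, map_mul, hf.involutive, hf.involutive] at h1
    convert h1 using 1
    rw [un_smul_right hf, map_mul, hf.involutive]
    have := hR.ne
    have hτζ : τ ζ ≠ 0 := fun e => hR.ne (τ.injective (by rw [e, map_zero]))
    field_simp

section odd

variable {r : ℕ}

/-- The squared length of the pairing with a centre is rational. -/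
lemma norm_mem [Fintype F] (hsm : Small τ h F₀ H) (hr : r.Prime) (hr2 : r ≠ 2)
    (hcard : Fintype.card F = Nat.card F₀ ^ r) (h2 : (2 : F) ≠ 0) {k : F} (hkF : k ∈ F₀) (hk : k ≠ 0)
    (hkτ : τ k = -k) {v : ι → F} (hvv : h v v = 0) (hX : HasMap H (eMap h v 0 k)) (hζ : ζ = 1) {d : ι → F}
    (hd : RatV F₀ d) (hdd : h d d = 0) : h d v * τ (h d v) ∈ F₀ := by
  classical
  have hR := hS.form
  have hf := hR.unit
  subst hζ
  set a := h d v with ha
  by_cases ha0 : a = 0
  · rw [ha0, zero_mul]; exact F₀.zero_mem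
  have hτa : τ a ≠ 0 := by simpa using ha0
  have hd0 : d ≠ 0 := fun e => ha0 (by rw [ha, e, un_zero_left hf])
  set lam := k * k * (a * τ a) with hlam
  have hlam0 : lam ≠ 0 := mul_ne_zero (mul_ne_zero hk hk) (mul_ne_zero ha0 hτa)
  suffices hl : lam ∈ F₀ by
    have := F₀.mul_mem (F₀.inv_mem (F₀.mul_mem hkF hkF)) hl
    rwa [hlam, inv_mul_cancel_left₀ (mul_ne_zero hk hk)] at this
  have hTd : HasMap H (eMap h d 0 k) := by
    have := hS.eMap_mem hd hdd (v := 0) ratV_zero (un_zero_left hf d) hkF (by rw [one_mul, hkτ, un_zero_left hf]; ring)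
    rwa [smul_zero, one_mul] at this
  let K : Subfield F := Subfield.closure {lam}
  let l : K := ⟨lam, Subfield.subset_closure rfl⟩
  have hl0 : l ≠ 0 := fun e => hlam0 (congrArg Subtype.val e)
  have hlgen : Subfield.closure ({l} : Set K) = ⊤ := by
    refine eq_top_iff.2 fun x _ => ?_
    have h1 : (Subfield.closure ({l} : Set K)).map K.subtype = K := by
      rw [RingHom.map_field_closure, Set.image_singleton]
      rfl
    obtain ⟨y, hy, hyx⟩ := (h1.symm ▸ x.2 : (x : F) ∈ (Subfield.closure ({l} : Set K)).map K.subtype)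
    rwa [← Subtype.ext (hyx : (y : F) = x)]
  obtain ⟨p, hp⟩ := CharP.exists F
  haveI : Fact p.Prime := ⟨CharP.char_is_prime F p⟩
  haveI : CharP K p := (RingHom.charP_iff_charP K.subtype p).2 hp
  haveI : Fintype K := Fintype.ofFinite K
  have h2K : (2 : K) ≠ 0 := fun e => h2 (by simpa [map_ofNat] using congrArg K.subtype e)
  rcases PSL2.Gen.main p h2K l hl0 hlgen with hG | ⟨-, hsq⟩
  swap
  · refine mem_of_mul_self_mem hr hr2 hcard ?_
    rw [← sq, show lam ^ 2 = ((l ^ 2 : K) : F) from rfl, hsq]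
    simpa using F₀.neg_mem F₀.one_mem
  -- the action on the plane
  set v' := (k * τ a)⁻¹ • v with hv'
  have hva : h v d = τ a := hf.herm v d
  have e₁ : k * h v' d = 1 := by
    rw [hv', hf.smul_left, hva]; field_simp
  have e₂ : h v' v = 0 := by rw [hv', hf.smul_left, hvv, mul_zero]
  let ρ : Matrix (Fin 2) (Fin 2) K → (ι → F) → ι → F := fun A y =>
    y + (k * h y d) • ((A 0 0 : F) • v' + (A 1 0 : F) • d - v') + (h y v / a) • ((A 0 1 : F) • v' + (A 1 1 : F) • d - d)
  have ρmul : ∀ A B y, ρ (A * B) y = ρ A (ρ B y) := fun A B y => by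
    have c0 : k * h (ρ B y) d = (B 0 0 : F) * (k * h y d) + (B 0 1 : F) * (h y v / a) := by
      simp only [ρ, hf.add_left, hf.smul_left, hR.sub_left, hdd, mul_zero, add_zero, sub_zero]
      linear_combination ((k * h y d) * ((B 0 0 : F) - 1) + (h y v / a) * (B 0 1 : F)) * e₁
    have c1 : h (ρ B y) v / a = (B 1 0 : F) * (k * h y d) + (B 1 1 : F) * (h y v / a) := by
      simp only [ρ, hf.add_left, hf.smul_left, hR.sub_left, e₂, ← ha, mul_zero, add_zero, zero_add, sub_zero]
      field_simp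
      ring
    show y + _ + _ = ρ B y + _ + _
    rw [c0, c1]
    simp only [ρ, Matrix.mul_apply, Fin.sum_univ_two]
    push_cast
    module
  have ρone : ∀ y, ρ 1 y = y := fun y => by simp [ρ]
  have hall : ∀ A ∈ Subgroup.closure (PSL2.Gen.gens l), HasMap H (ρ A.1) := by
    intro A hA
    induction hA using Subgroup.closure_induction with
    | mem A hA =>
      rcases hA with hA | hA
      · refine hTd.congr fun y => ?_
        simp [ρ, hA, eMap, un_zero_right hf]
      · refine hX.congr fun y => ?_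
        simp [ρ, hA, eMap, un_zero_right hf, hv', smul_smul]
        congr 1
        rw [show (l : F) = lam from rfl, hlam]
        field_simp
    | one => exact hasMap_id.congr fun y => (ρone y).symm
    | mul A B _ _ p q => exact (p.comp q).congr fun y => (ρmul _ _ y).symm
    | inv A _ p =>
      refine HasMap.left_cancel p (hasMap_id.congr fun y => ?_)
      rw [Function.comp_apply, ← ρmul, ← Matrix.SpecialLinearGroup.coe_mul, mul_inv_cancel,
        Matrix.SpecialLinearGroup.coe_one, ρone]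
      rfl
  have hT := hall ⟨!![1, 0; l, 1], by simp [Matrix.det_fin_two]⟩ (hG ▸ Subgroup.mem_top _)
  have hT' : HasMap H (eMap h d 0 (k * lam)) := hT.congr fun y => by
    simp [ρ, eMap, un_zero_right hf, smul_smul]
    congr 1
    show k * h y d * lam = k * lam * h y d
    ring
  obtain ⟨f, P⟩ := hR.exists_hyp hd hdd hd0
  obtain ⟨i, hi⟩ := Function.ne_iff.1 hd0
  have h5 := hsm d 0 (k * lam) hd hdd hd0 (un_zero_left hf d) (by
    rw [un_zero_left hf, add_zero, hlam]
    simp only [map_mul, hf.involutive, hkτ]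
    ring) hT' f P.right i
  simp only [eMap, un_zero_right hf, sub_zero, smul_zero, add_zero, Pi.add_apply, Pi.smul_apply, smul_eq_mul, Pi.zero_apply] at h5
  have h6 := F₀.mul_mem (F₀.sub_mem h5 (P.right i)) (F₀.inv_mem (F₀.mul_mem hkF (hd i)))
  convert h6 using 1
  have hone := P.one
  rw [one_mul] at hone
  have hdi : d i ≠ 0 := hi
  rw [hone]
  field_simp
  ring

/-- In even characteristic a centre lies on a rational line. -/
lemma even_line [Fintype F] (hsm : Small τ h F₀ H) (hr : r.Prime) (hr2 : r ≠ 2)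
    (hcard : Fintype.card F = Nat.card F₀ ^ r) (h2 : (2 : F) = 0) {k : F} (hkF : k ∈ F₀) (hk : k ≠ 0)
    (hkτ : τ k = -k) {v : ι → F} (hv0 : v ≠ 0) (hvv : h v v = 0) (hX : HasMap H (tMap h k v)) (hζ : ζ = 1) : RatLine F₀ v := by
  classical
  have hR := hS.form
  have hf := hR.unit
  obtain ⟨u, hu, huu, hu0⟩ := hR.exists_iso
  obtain ⟨f, P⟩ := hR.exists_hyp hu huu hu0
  obtain ⟨a, b, ha0, ha, hb, Q⟩ := P.exists_second hR
  subst hζ
  have ratT : ∀ {e : ι → F}, RatV F₀ e → h e e = 0 → HasMap H (tMap h k e) := fun {e} he hee => by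
    have := hS.eMap_mem he hee (v := 0) ratV_zero (un_zero_left hf e) hkF (by rw [one_mul, hkτ, un_zero_left hf]; ring)
    rwa [smul_zero, one_mul, hS.eMap_zero] at this
  obtain ⟨X, hX, eX⟩ := hX
  obtain ⟨Tu, hTu, eu⟩ := ratT hu huu
  obtain ⟨Ta, hTa, ea⟩ := ratT ha.mem ha.iso
  have hua : h u a = 0 := hR.skew0 ha.perpL
  set T := Tu * Ta with hT
  have eT : ∀ y, Units.val T *ᵥ y = y + (k * h y u) • u + (k * h y a) • a := fun y => by
    rw [hT, Units.val_mul, ← Matrix.mulVec_mulVec, ea, eu]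
    simp only [tMap, hf.add_left, hf.smul_left, ha.perpL, mul_zero, add_zero]
    module
  have hdouble : ∀ y : ι → F, y + y = 0 := fun y => by
    rw [← two_smul F y, h2, zero_smul]
  have hTT : T * T = 1 := Units.ext (CfsgLib.Geometry.matrix_eq_of_mulVec fun y => by
    rw [Units.val_mul, ← Matrix.mulVec_mulVec, eT, eT, Units.val_one, Matrix.one_mulVec]
    simp only [hf.add_left, hf.smul_left, ha.perpL, hua, huu, ha.iso, mul_zero, add_zero]
    calc _ = y + ((k * h y u) • u + (k * h y u) • u) + ((k * h y a) • a + (k * h y a) • a) := by abel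
      _ = y := by rw [hdouble, hdouble, add_zero, add_zero])
  have hXX : X * X = 1 := Units.ext (CfsgLib.Geometry.matrix_eq_of_mulVec fun y => by
    rw [Units.val_mul, ← Matrix.mulVec_mulVec, eX, eX, Units.val_one, Matrix.one_mulVec]
    simp only [tMap, hf.add_left, hf.smul_left, hvv, mul_zero, add_zero]
    calc _ = y + ((k * h y v) • v + (k * h y v) • v) := by abel
      _ = y := by rw [hdouble, add_zero])
  rcases exists_central_or_conj hXX hTT with ⟨w, hw⟩ | ⟨z, w, m, hz2, hz1, hxz, htz, hwdef, hzw, -⟩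
  · exfalso
    set v' := Units.val w *ᵥ v
    have hspan : ∀ y, (k * h y u) • u + (k * h y a) • a ∈ F ∙ v' := fun y => by
      obtain ⟨x, rfl⟩ := mulVec_surj w y
      have h1 : Units.val T *ᵥ (Units.val w *ᵥ x) = Units.val w *ᵥ (Units.val X *ᵥ x) := by
        rw [← hw, Units.val_mul, Units.val_mul, ← Matrix.mulVec_mulVec, ← Matrix.mulVec_mulVec,
          Matrix.mulVec_mulVec x, ← Units.val_mul, inv_mul_cancel, Units.val_one, Matrix.one_mulVec]
      rw [eT, eX, tMap, Matrix.mulVec_add, Matrix.mulVec_smul, add_assoc, add_right_inj] at h1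
      exact Submodule.mem_span_singleton.2 ⟨_, h1.symm⟩
    have h3 := hspan f
    rw [hR.skew0 ha.perpR, mul_zero, zero_smul, add_zero] at h3
    have h4 := hspan b
    rw [hb.perpL, mul_zero, zero_smul, zero_add] at h4
    obtain ⟨s₁, hs₁⟩ := Submodule.mem_span_singleton.1
      ((Submodule.smul_mem_iff _ (mul_ne_zero hk P.fu_ne)).1 h3)
    obtain ⟨s₂, hs₂⟩ := Submodule.mem_span_singleton.1
      ((Submodule.smul_mem_iff _ (mul_ne_zero hk Q.fu_ne)).1 h4)
    refine P.notMem_span hR ha0 ha.perpL ha.perpR ?_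
    have hs : s₁ ≠ 0 := fun e => hu0 (by rw [← hs₁, e, zero_smul])
    refine Submodule.span_mono (show ({u} : Set (ι → F)) ⊆ Set.range ![u, f] from
      fun y hy => ⟨0, (Set.mem_singleton_iff.1 hy).symm⟩) (Submodule.mem_span_singleton.2 ⟨s₂ / s₁, ?_⟩)
    rw [← hs₁, ← hs₂, smul_smul, div_mul_cancel₀ _ hs]
  have hzH : z ∈ H := by rw [hzw, hwdef]; exact pow_mem (mul_mem hX (mul_mem hTu hTa)) m
  have hXm : HasMap H (tMap h k v) := ⟨X, hX, eX⟩
  -- the central element is rational
  have hzr : RatM F₀ (Units.val z) := by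
    set v' := Units.val z *ᵥ a with hv'
    have hv'0 : v' ≠ 0 := fun e => ha0 (mulVec_inj z (show Units.val z *ᵥ a = Units.val z *ᵥ 0 by
      rw [Matrix.mulVec_zero]; exact e))
    have hT' : HasMap H (tMap h k v') := by
      have h3 := hS.eMap_conj ((ratT ha.mem ha.iso).congr fun y => by rw [hS.eMap_zero]) hzH (w := 0)
      rwa [Matrix.mulVec_zero, hS.eMap_zero] at h3
    have hfix : Units.val T *ᵥ v' = v' := by
      rw [hv', Matrix.mulVec_mulVec, ← Units.val_mul, htz, Units.val_mul, ← Matrix.mulVec_mulVec, eT, ha.perpL, ha.iso]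
      simp
    rw [eT, add_assoc, add_eq_left] at hfix
    have huv : h v' u = 0 := by
      by_contra hne
      refine P.notMem_span hR ha0 ha.perpL ha.perpR ?_
      by_cases hc : h v' a = 0
      · rw [hc, mul_zero, zero_smul, add_zero, smul_eq_zero] at hfix
        exact absurd (hfix.resolve_right hu0) (mul_ne_zero hk hne)
      · refine Submodule.span_mono (show ({u} : Set (ι → F)) ⊆ Set.range ![u, f] from
          fun y hy => ⟨0, (Set.mem_singleton_iff.1 hy).symm⟩) (Submodule.mem_span_singleton.2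
            ⟨-((k * h v' a)⁻¹ * (k * h v' u)), ?_⟩)
        rw [neg_smul, mul_smul, eq_neg_of_add_eq_zero_left hfix, smul_neg, neg_neg, inv_smul_smul₀ (mul_ne_zero hk hc)]
    obtain ⟨c, hc0, hc⟩ := hS.line_of_perp hsm hv'0 hk hT' hu huu hu0 (hR.skew0 huv)
    have hcz := hS.rigid hsm hzH hc0 ha.mem ha.iso ha0 hc
    have hcc : c * c ∈ F₀ := by
      obtain ⟨i, hi⟩ := Function.ne_iff.1 hu0
      have h4 := (hcz.mul hcz).mulVec hu i
      rw [smul_mul_smul_comm, ← Units.val_mul, hz2, Units.val_one, Matrix.smul_mulVec, Matrix.one_mulVec] at h4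
      have h5 := F₀.mul_mem h4 (F₀.inv_mem (hu i))
      rwa [Pi.smul_apply, smul_eq_mul, mul_assoc, mul_inv_cancel₀ (show u i ≠ 0 from hi), mul_one] at h5
    have h6 := hcz.smul (F₀.inv_mem (mem_of_mul_self_mem hr hr2 hcard hcc))
    rwa [smul_smul, inv_mul_cancel₀ hc0, one_smul] at h6
  have hzi := suH_iso (hS.le hzH)
  have hzz : ∀ y, Units.val z *ᵥ (Units.val z *ᵥ y) = y := fun y => by
    rw [Matrix.mulVec_mulVec, ← Units.val_mul, hz2, Units.val_one, Matrix.one_mulVec]
  obtain ⟨y₀, -, -, hy₀⟩ := hR.exists_iso_ne hv0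
  have hy₀' : h y₀ v ≠ 0 := fun e => hy₀ (hR.skew0 e)
  have hcomm : ∀ y, h y v • (Units.val z *ᵥ v) = h (Units.val z *ᵥ y) v • v := fun y => by
    have h1 : Units.val X *ᵥ (Units.val z *ᵥ y) = Units.val z *ᵥ (Units.val X *ᵥ y) := by
      rw [Matrix.mulVec_mulVec, Matrix.mulVec_mulVec, ← Units.val_mul, ← Units.val_mul, hxz]
    rw [eX, eX, tMap, tMap, Matrix.mulVec_add, Matrix.mulVec_smul, add_right_inj, mul_smul, mul_smul] at h1
    exact (smul_right_injective _ hk h1).symm
  set κ := h (Units.val z *ᵥ y₀) v / h y₀ v with hκ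
  have hzv : Units.val z *ᵥ v = κ • v := by
    rw [hκ, div_eq_inv_mul, mul_smul, ← hcomm, inv_smul_smul₀ hy₀']
  have hκ1 : κ = 1 := by
    have h1 := hzz v
    rw [hzv, Matrix.mulVec_smul, hzv, smul_smul] at h1
    have h3 : κ * κ = 1 := smul_left_injective F hv0 (by simpa using h1)
    exact mul_self_eq_mul_self_iff.1 (h3.trans (mul_one 1).symm) |>.elim id fun e => by
      rw [e, show (-1 : F) = 1 by linear_combination -h2]
  have hperp : ∀ y, h (Units.val z *ᵥ y - y) v = 0 := fun y => by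
    have h1 := hcomm y
    rw [hzv, hκ1, one_smul] at h1
    rw [hR.sub_left, ← smul_left_injective F hv0 h1, sub_self]
  obtain ⟨j, hj⟩ : ∃ j, Units.val z *ᵥ Pi.single j 1 - Pi.single j 1 ≠ 0 := by
    by_contra! hall
    refine hz1 (Units.ext (Matrix.ext fun i j => ?_))
    have := congrFun (hall j) i
    rw [Matrix.mulVec_single_one, Pi.sub_apply, Pi.zero_apply, sub_eq_zero] at this
    rw [Units.val_one, Matrix.one_apply]
    simpa [Pi.single_apply] using this
  have hje : RatV F₀ (Pi.single j 1 : ι → F) := ratV_single j F₀.one_mem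
  refine hS.line_of_perp hsm hv0 hk hXm ((hzr.mulVec hje).sub hje) ?_ hj (hperp _)
  set e := (Pi.single j 1 : ι → F)
  have hsym : h (Units.val z *ᵥ e) e = h e (Units.val z *ᵥ e) := by
    conv_lhs => arg 2; rw [← hzz e]
    rw [hzi]
  rw [hR.sub_left, hR.sub_right, hR.sub_right, hzi, hsym]
  linear_combination (h e e - h e (Units.val z *ᵥ e)) * h2

/-- Odd degree: the image of a rational isotropic vector lies on a rational line. -/
lemma odd_line [Fintype F] (hsm : Small τ h F₀ H) (hr : r.Prime) (hr2 : r ≠ 2)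
    (hcard : Fintype.card F = Nat.card F₀ ^ r) (hne : ∃ x ∈ F₀, τ x ≠ x) (hζ : ζ = 1) {g : GL ι F} (hg : g ∈ H)
    {e : ι → F} (he : RatV F₀ e) (hee : h e e = 0) (he0 : e ≠ 0) : RatLine F₀ (Units.val g *ᵥ e) := by
  classical
  have hR := hS.form
  have hf := hR.unit
  subst hζ
  obtain ⟨ω, hω, hω'⟩ := hne
  set k := ω - τ ω with hkd
  have hkF : k ∈ F₀ := F₀.sub_mem hω (hR.tau_mem _ hω)
  have hk : k ≠ 0 := sub_ne_zero.2 (Ne.symm hω')
  have hkτ : τ k = -k := by rw [hkd, map_sub, hf.involutive]; ring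
  set v := Units.val g *ᵥ e with hv
  have hv0 : v ≠ 0 := fun e' => he0 (mulVec_inj g (show Units.val g *ᵥ e = Units.val g *ᵥ 0 by
    rw [Matrix.mulVec_zero]; exact e'))
  have hvv : h v v = 0 := by rw [hv, suH_iso (hS.le hg)]; exact hee
  have hXe : HasMap H (eMap h v 0 k) := by
    have h1 := hS.eMap_mem he hee (v := 0) ratV_zero (un_zero_left hf e) hkF
      (by rw [one_mul, hkτ, un_zero_left hf]; ring)
    rw [smul_zero, one_mul] at h1
    have h2 := hS.eMap_conj h1 hg
    rwa [Matrix.mulVec_zero] at h2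
  have hXm : HasMap H (tMap h k v) := hS.eMap_zero ▸ hXe
  by_cases h2 : (2 : F) = 0
  · exact hS.even_line hsm hr hr2 hcard h2 hkF hk hkτ hv0 hvv hXm rfl
  by_cases hperp : ∃ d, RatV F₀ d ∧ h d d = 0 ∧ d ≠ 0 ∧ h d v = 0
  · obtain ⟨d, hd, hdd, hd0, hdv⟩ := hperp
    exact hS.line_of_perp hsm hv0 hk hXm hd hdd hd0 hdv
  push Not at hperp
  have hN : ∀ d, RatV F₀ d → h d d = 0 → h d v * τ (h d v) ∈ F₀ := fun d hd hdd =>
    hS.norm_mem hsm hr hr2 hcard h2 hkF hk hkτ hvv hXe rfl hd hdd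
  have orth : ∀ {d d' : ι → F}, RatV F₀ d → h d d = 0 → RatV F₀ d' → h d' d' = 0 → h d d' = 0 →
      h d' v * τ (h d v) ∈ F₀ := by
    intro d d' hd hdd hd' hd'd hdd'
    have comb : ∀ s ∈ F₀, τ s * (h d v * τ (h d' v)) + s * (h d' v * τ (h d v)) ∈ F₀ := fun s hs => by
      have h3 := hN _ (hd.addV (hd'.smul hs))
        (by simp [hf.add_left, un_add_right hf, hf.smul_left, un_smul_right hf, hdd, hd'd, hdd', hR.skew0 hdd'])
      rw [hf.add_left, hf.smul_left, map_add, map_mul] at h3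
      convert F₀.sub_mem h3 (F₀.add_mem (hN d hd hdd) (F₀.mul_mem (F₀.mul_mem hs (hR.tau_mem _ hs)) (hN d' hd' hd'd)))
        using 1
      ring
    have h4 := F₀.sub_mem (comb ω hω) (F₀.mul_mem (hR.tau_mem _ hω) (comb 1 F₀.one_mem))
    rw [map_one, one_mul, one_mul] at h4
    have h5 := F₀.mul_mem (F₀.inv_mem hkF) h4
    convert h5 using 1
    rw [hkd] at hk ⊢
    field_simp
    ring
  obtain ⟨d₀, hd₀, hd₀d, hd₀0⟩ := hR.exists_iso
  set a₀ := h d₀ v with ha₀
  have ha₀0 : a₀ ≠ 0 := hperp d₀ hd₀ hd₀d hd₀0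
  have ratio : ∀ {d d' : ι → F}, RatV F₀ d → h d d = 0 → d ≠ 0 → RatV F₀ d' → h d' d' = 0 → h d d' = 0 →
      h d' v / h d v ∈ F₀ := by
    intro d d' hd hdd hd0 hd' hd'd hdd'
    have := F₀.div_mem (orth hd hdd hd' hd'd hdd') (hN d hd hdd)
    rwa [mul_div_mul_right _ _ (by simpa using hperp d hd hdd hd0)] at this
  have all : ∀ d, RatV F₀ d → h d d = 0 → h d v / a₀ ∈ F₀ := fun d hd hdd => by
    by_cases hd0 : h d₀ d = 0
    · exact ratio hd₀ hd₀d hd₀0 hd hdd hd0
    obtain ⟨m, hm, hm0, hmm, hmp⟩ := hR.iso_two ![d₀, d] (by intro i; fin_cases i; exacts [hd₀, hd])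
    have h3 := F₀.mul_mem (ratio hm hmm hm0 hd hdd (hmp 1)) (ratio hd₀ hd₀d hd₀0 hm hmm (hR.skew0 (hmp 0)))
    rwa [div_mul_div_cancel₀ (hperp m hm hmm hm0)] at h3
  refine ⟨(τ a₀)⁻¹, inv_ne_zero (by simpa using ha₀0), hR.ratV_of_iso fun d hd hdd => ?_⟩
  rw [un_smul_right hf, map_inv₀, hf.involutive, one_mul, inv_mul_eq_div]
  exact all d hd hdd

end odd

end Over

end CfsgLib.Maximal.Six
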