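import Cfsg.Agent.Lib.Maximal.UnSubSix.Full
import Cfsg.Agent.Lib.Maximal.UnSubSix.Lines
import Cfsg.Agent.Lib.Maximal.UnSubMain

/-!
Subfield subgroups of special unitary groups of dimension at least six.
-/

set_option autoImplicit false
set_option linter.unusedSectionVars false
set_option linter.unusedSimpArgs false
set_option linter.style.haveILetI false

namespace CfsgLib.Maximal.Six

open scoped Matrix

variable {F : Type*} [Field F] [Fintype F] {n q : ℕ}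

/-- A subfield subgroup is maximal as soon as lines can be found. -/
theorem maximal (hF : Fintype.card F = q ^ 2) (hn : 6 ≤ n) {τ : F ≃+* F}
    (hf : Cfsg.Geo.IsUnitaryForm τ (Cfsg.hermForm n F q)) {F₀ : Subfield F} {r : ℕ} (hr : r.Prime)
    (hcard : Fintype.card F = Nat.card F₀ ^ r) {ζ : F} (P : Matrix.GeneralLinearGroup (Fin n) F)
    (hR : Rat6 τ (pullForm q P) F₀ ζ)
    (hfour : r = 2 ∨ ∀ p : Fin 4 → Fin n → F, (∀ i, RatV F₀ (p i)) →
      ∃ a, RatV F₀ a ∧ a ≠ 0 ∧ pullForm q P a a = 0 ∧ ∀ i, pullForm q P a (p i) = 0)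
    (hline : ∀ H, Over τ (pullForm q P) F₀ ζ H → Small τ (pullForm q P) F₀ H → ∀ g ∈ H,
      ∀ e : Fin n → F, RatV F₀ e → pullForm q P e e = 0 → e ≠ 0 → RatLine F₀ (Units.val g *ᵥ e)) :
    Cfsg.Geo.IsMaximalIn (suGL n F q) (Cfsg.Geo.subfieldSubgroup F₀ P ⊓ suGL n F q) := by
  classical
  refine ⟨lt_of_le_of_ne inf_le_right fun heq => ?_, fun M hSM hMK => ?_⟩
  · obtain ⟨μ, hμ⟩ := exists_notMem_subfield hr hcard
    obtain ⟨u, hu, huu, hu0⟩ := hR.exists_iso
    obtain ⟨f, Q⟩ := hR.exists_hyp hu huu hu0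
    obtain ⟨a, b, ha0, ha, -, -⟩ := Q.exists_second hR
    have hw : pullForm q P ((ζ * μ) • a) u = 0 := by rw [hR.unit.smul_left, ha.perpL, mul_zero]
    obtain ⟨g, hg, eg⟩ := hR.exists_eMap huu hw (c := 0) (by
      rw [hR.unit.smul_left, un_smul_right hR.unit, ha.iso]; simp)
    have h1 := ((SetLike.ext_iff.1 heq _).2 ((conj_mem_suGL P g).2 hg)).1
    have h2 := (mem_subfieldSubgroup_iff P _).1 h1
    rw [show P⁻¹ * (P * g * P⁻¹) * P = g by group] at h2
    obtain ⟨c, hc, hrat⟩ := h2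
    have hga : Units.val g *ᵥ a = a := by rw [eg, eMap, ha.perpL, un_smul_right hR.unit, ha.iso]; simp
    have hgf : Units.val g *ᵥ f = f + μ • a := by
      rw [eg, eMap, un_smul_right hR.unit, hR.skew0 ha.perpR, smul_smul, ← mul_assoc, mul_comm _ ζ, Q.one, one_mul]
      simp
    obtain ⟨l, hl⟩ := Function.ne_iff.1 ha0
    have hl0 : a l ≠ 0 := hl
    have hcF : c ∈ F₀ := by
      have h3 := hrat.mulVec ha.mem l
      rw [Matrix.smul_mulVec, hga, Pi.smul_apply, smul_eq_mul] at h3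
      have h4 := F₀.mul_mem h3 (F₀.inv_mem (ha.mem l))
      rwa [mul_assoc, mul_inv_cancel₀ hl0, mul_one] at h4
    have h3 := hrat.mulVec Q.right l
    rw [Matrix.smul_mulVec, hgf, Pi.smul_apply, Pi.add_apply, Pi.smul_apply, smul_eq_mul, smul_eq_mul] at h3
    refine hμ ?_
    have h4 := F₀.div_mem (F₀.sub_mem (F₀.div_mem h3 hcF) (Q.right l)) (ha.mem l)
    convert h4 using 1
    field_simp
    ring
  · let H : Subgroup (Matrix.GeneralLinearGroup (Fin n) F) := M.map (MulAut.conj P⁻¹).toMonoidHom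
    have memH : ∀ g, g ∈ H ↔ P * g * P⁻¹ ∈ M := fun g => by
      constructor
      · rintro ⟨x, hx, rfl⟩
        simpa [MulAut.conj_apply, mul_assoc] using hx
      · intro hg; exact ⟨_, hg, by simp [MulAut.conj_apply, mul_assoc]⟩
    have hS : Over τ (pullForm q P) F₀ ζ H := ⟨hR,
      fun g hg => (conj_mem_suGL P g).1 (hMK ((memH g).1 hg)),
      fun g hg hrat => (memH g).2 (hSM ⟨(mem_subfieldSubgroup_iff P _).2 (by
        rwa [show P⁻¹ * (P * g * P⁻¹) * P = g by group]), (conj_mem_suGL P g).2 hg⟩)⟩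
    by_cases hsm : Small τ (pullForm q P) F₀ H
    · refine Or.inl (le_antisymm (fun g hg => ⟨(mem_subfieldSubgroup_iff P g).2 ?_, hMK hg⟩) hSM)
      have hgH : P⁻¹ * g * P ∈ H := (memH _).2 (by
        rwa [show P * (P⁻¹ * g * P) * P⁻¹ = g by group])
      obtain ⟨e, he, hee, he0⟩ := hR.exists_iso
      obtain ⟨c, hc, hl⟩ := hline H hS hsm _ hgH e he hee he0
      exact ⟨c, hc, hS.rigid hsm hgH hc he hee he0 hl⟩
    · refine Or.inr (le_antisymm hMK ?_)
      refine suGL_le_of_full hf hF (by omega) fun v hv k hk => ?_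
      obtain ⟨u, rfl⟩ := mulVec_surj P v
      obtain ⟨g, hg, eg⟩ := hS.full_of_big hr hcard hfour hsm u k hv hk
      refine ⟨un_tv_dot hf hv k, ?_⟩
      convert (memH g).1 hg using 1
      refine Units.ext (CfsgLib.Geometry.matrix_eq_of_mulVec fun x => ?_)
      obtain ⟨x, rfl⟩ := mulVec_surj P x
      show Units.val (tv _ _ _) *ᵥ (Units.val P *ᵥ x) = Units.val (P * g * P⁻¹) *ᵥ (Units.val P *ᵥ x)
      rw [Matrix.mulVec_mulVec x (Units.val (P * g * P⁻¹)), ← Units.val_mul, inv_mul_cancel_right, Units.val_mul,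
        ← Matrix.mulVec_mulVec, eg, tv_mulVec, un_dot hf, smul_smul]
      simp only [tMap, Matrix.mulVec_add, Matrix.mulVec_smul, pullForm]
      rw [mul_comm]

/-- Lines over a quadratic extension. -/
theorem quad_line_of {τ : F ≃+* F} {h : (Fin n → F) → (Fin n → F) → F} {F₀ : Subfield F} {ζ : F}
    {H : Subgroup (Matrix.GeneralLinearGroup (Fin n) F)} (hS : Over τ h F₀ ζ H) (hsm : Small τ h F₀ H) (hn : 6 ≤ n)
    (hcard : Fintype.card F = Nat.card F₀ ^ 2) {g : Matrix.GeneralLinearGroup (Fin n) F} (hg : g ∈ H) {e : Fin n → F}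
    (he : RatV F₀ e) (hee : h e e = 0) (he0 : e ≠ 0)
    (hfix : ∀ v₁ v₂, RatV F₀ v₁ → RatV F₀ v₂ →
      ∃ d, RatV F₀ d ∧ h d d = 0 ∧ d ≠ 0 ∧ h d v₁ = 0 ∧ h d v₂ = 0) :
    RatLine F₀ (Units.val g *ᵥ e) := by
  classical
  haveI : Fintype F₀ := Fintype.ofFinite _
  have hfr : Module.finrank F₀ F = 2 := by
    have h1 := Module.card_eq_pow_finrank (K := F₀) (V := F)
    rw [hcard, Nat.card_eq_fintype_card] at h1
    exact (Nat.pow_right_injective Fintype.one_lt_card h1).symm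
  refine hS.quad_line hsm hfr (by simpa using hn) hg he hee he0 ?_
  obtain ⟨b⟩ : Nonempty (Module.Basis (Fin 2) F₀ F) := ⟨Module.finBasisOfFinrankEq F₀ F hfr⟩
  set v := Units.val g *ᵥ e
  obtain ⟨d, hd, hdd, hd0, h1, h2⟩ := hfix (fun i => ((b.repr (v i) 0 : F₀) : F)) (fun i => ((b.repr (v i) 1 : F₀) : F))
    (fun i => (b.repr (v i) 0).2) (fun i => (b.repr (v i) 1).2)
  refine ⟨d, hd, hdd, hd0, ?_⟩
  have e : v = b 0 • (fun i => ((b.repr (v i) 0 : F₀) : F)) + b 1 • fun i => ((b.repr (v i) 1 : F₀) : F) := funext fun i => by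
    conv_lhs => rw [← b.sum_repr (v i), Fin.sum_univ_two]
    simp [Subfield.smul_def, mul_comm]
  rw [e, un_add_right hS.form.unit, un_smul_right hS.form.unit, un_smul_right hS.form.unit, h1, h2]
  simp

theorem symplectic_maximal (hF : Fintype.card F = q ^ 2) (hn : 6 ≤ n) (F₀ : Subfield F)
    (hcard : Fintype.card F = Nat.card F₀ ^ 2) (ζ : F) (hζ : ζ ≠ 0) (P : Matrix.GeneralLinearGroup (Fin n) F)
    (hP : Cfsg.Geo.IsFormRationalStructure (Cfsg.hermForm n F q) F₀ ζ P)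
    (halt : ∀ u : Fin n → F, (∀ i, u i ∈ F₀) →
      Cfsg.hermForm n F q (Units.val P *ᵥ u) (Units.val P *ᵥ u) = 0) :
    Cfsg.Geo.IsMaximalIn (suGL n F q) (Cfsg.Geo.subfieldSubgroup F₀ P ⊓ suGL n F q) := by
  obtain ⟨τ, hτ, hf⟩ := exists_hermSigma hF n
  have hh := pullForm_unitary hf P
  have iso : ∀ (k : ℕ) (p : Fin k → Fin n → F), k < n → (∀ i, RatV F₀ (p i)) →
      ∃ a, RatV F₀ a ∧ a ≠ 0 ∧ pullForm q P a a = 0 ∧ ∀ i, pullForm q P a (p i) = 0 := fun k p hk hp => by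
    obtain ⟨x, hx, hx0, hxp⟩ := exists_rat_perp hh hζ hP p hp (by simpa using hk)
    exact ⟨x, hx, hx0, halt x hx, hxp⟩
  have hR : Rat6 τ (pullForm q P) F₀ ζ := ⟨hh, hζ, hP, fun x hx => by rw [hτ]; exact F₀.pow_mem hx q,
    fun v hv => ⟨0, F₀.zero_mem, by rw [show pullForm q P v v = 0 from halt v hv]; simp⟩,
    fun p hp => iso 2 p (by omega) hp, by simp; omega⟩
  refine maximal hF hn hf Nat.prime_two hcard P hR (Or.inl rfl) fun H hS hsm g hg e he hee he0 => ?_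
  refine quad_line_of hS hsm hn hcard hg he hee he0 fun v₁ v₂ h1 h2 => ?_
  obtain ⟨d, hd, hd0, hdd, hdp⟩ := iso 2 ![v₁, v₂] (by omega) (by intro i; fin_cases i; exacts [h1, h2])
  exact ⟨d, hd, hdd, hd0, hdp 0, hdp 1⟩

theorem orthogonal_maximal (hF : Fintype.card F = q ^ 2) (hn : 6 ≤ n) (hodd : Odd q) (F₀ : Subfield F)
    (hcard : Fintype.card F = Nat.card F₀ ^ 2) (P : Matrix.GeneralLinearGroup (Fin n) F)
    (hP : Cfsg.Geo.IsFormRationalStructure (Cfsg.hermForm n F q) F₀ 1 P) :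
    Cfsg.Geo.IsMaximalIn (suGL n F q) (Cfsg.Geo.subfieldSubgroup F₀ P ⊓ suGL n F q) := by
  classical
  obtain ⟨τ, hτ, hf⟩ := exists_hermSigma hF n
  haveI : Fintype F₀ := Fintype.ofFinite _
  have hq : Fintype.card F₀ = q := by
    rw [hF, Nat.card_eq_fintype_card] at hcard
    exact (Nat.pow_left_injective two_ne_zero hcard).symm
  have hfix : ∀ x ∈ F₀, τ x = x := fun x hx => by
    rw [hτ, ← hq]
    exact congrArg Subtype.val (FiniteField.pow_card (⟨x, hx⟩ : F₀))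
  have h2' : (2 : F₀) ≠ 0 := fun h0 => by
    haveI : CharP F₀ 2 := CharTwo.of_one_ne_zero_of_two_eq_zero one_ne_zero h0
    have := FiniteField.even_card_of_char_two ((ringChar.eq_iff).2 ‹CharP F₀ 2›)
    rw [hq] at this
    exact absurd (Nat.odd_iff.1 hodd) (by omega)
  have h2 : (2 : F) ≠ 0 := fun h0 => h2' (F₀.subtype.injective (by simpa [map_ofNat] using h0))
  have hh := pullForm_unitary hf P
  have hm : ∀ u v, RatV F₀ u → RatV F₀ v → pullForm q P u v ∈ F₀ := fun u v hu hv => by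
    simpa [pullForm] using hP u v hu hv
  have iso : ∀ (k : ℕ) (p : Fin k → Fin n → F), k + 2 < n → (∀ i, RatV F₀ (p i)) →
      ∃ a, RatV F₀ a ∧ a ≠ 0 ∧ pullForm q P a a = 0 ∧ ∀ i, pullForm q P a (p i) = 0 := fun k p hk hp => by
    have sel : ∀ (m : ℕ) (p : Fin m → Fin n → F), m < n → (∀ i, RatV F₀ (p i)) →
        ∃ x, RatV F₀ x ∧ x ≠ 0 ∧ ∀ i, pullForm q P x (p i) = 0 := fun m p hm hp =>
      exists_rat_perp hh one_ne_zero hP p hp (by simpa using hm)
    obtain ⟨x₁, hx₁, hx₁0, hx₁p⟩ := sel k p (by omega) hp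
    obtain ⟨x₂, hx₂, hx₂0, hx₂p⟩ := sel (k + 1) (Fin.snoc p x₁) (by omega) (fun i => by
      induction i using Fin.lastCases <;> simp [hx₁, hp])
    obtain ⟨x₃, hx₃, hx₃0, hx₃p⟩ := sel (k + 2) (Fin.snoc (Fin.snoc p x₁) x₂) (by omega) (fun i => by
      induction i using Fin.lastCases with
      | last => simpa using hx₂
      | cast i => induction i using Fin.lastCases <;> simp [hx₁, hp])
    have e21 : pullForm q P x₂ x₁ = 0 := by simpa using hx₂p (Fin.last k)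
    have e32 : pullForm q P x₃ x₂ = 0 := by simpa using hx₃p (Fin.last (k + 1))
    have e31 : pullForm q P x₃ x₁ = 0 := by simpa using hx₃p (Fin.last k).castSucc
    have p2 : ∀ i, pullForm q P x₂ (p i) = 0 := fun i => by simpa using hx₂p i.castSucc
    have p3 : ∀ i, pullForm q P x₃ (p i) = 0 := fun i => by simpa using hx₃p i.castSucc.castSucc
    by_cases hA : pullForm q P x₁ x₁ = 0
    · exact ⟨x₁, hx₁, hx₁0, hA, hx₁p⟩
    by_cases hC : pullForm q P x₂ x₂ = 0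
    · exact ⟨x₂, hx₂, hx₂0, hC, p2⟩
    by_cases hE : pullForm q P x₃ x₃ = 0
    · exact ⟨x₃, hx₃, hx₃0, hE, p3⟩
    obtain ⟨α, β, hab⟩ := FiniteField.exists_root_sum_quadratic (R := F₀)
      (f := Polynomial.C ⟨_, hm x₁ x₁ hx₁ hx₁⟩ * Polynomial.X ^ 2 + Polynomial.C 0 * Polynomial.X + Polynomial.C 0)
      (g := Polynomial.C ⟨_, hm x₂ x₂ hx₂ hx₂⟩ * Polynomial.X ^ 2 + Polynomial.C 0 * Polynomial.X +
        Polynomial.C ⟨_, hm x₃ x₃ hx₃ hx₃⟩)
      (Polynomial.degree_quadratic (fun e => hA (congrArg Subtype.val e)))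
      (Polynomial.degree_quadratic (fun e => hC (congrArg Subtype.val e))) (by rw [hq]; exact Nat.odd_iff.1 hodd)
    have hab' : pullForm q P x₁ x₁ * (α : F) ^ 2 + (pullForm q P x₂ x₂ * (β : F) ^ 2 + pullForm q P x₃ x₃) = 0 := by
      simpa using congrArg Subtype.val hab
    refine ⟨(α : F) • x₁ + (β : F) • x₂ + x₃, ((hx₁.smul α.2).addV (hx₂.smul β.2)).addV hx₃, fun e => hE ?_, ?_,
      fun i => ?_⟩
    · have h3 := congrArg (fun y => pullForm q P y x₃) e
      simp only [hh.add_left, hh.smul_left, un_zero_left hh, hh.herm x₁ x₃, hh.herm x₂ x₃, e31, e32, map_zero,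
        mul_zero, zero_add] at h3
      exact h3
    · simp only [hh.add_left, un_add_right hh, hh.smul_left, un_smul_right hh, e21, e31, e32, hh.herm x₁ x₂,
        hh.herm x₁ x₃, hh.herm x₂ x₃, map_zero, mul_zero, add_zero, zero_add, hfix _ α.2, hfix _ β.2]
      linear_combination hab'
    · simp only [hh.add_left, hh.smul_left, hx₁p, p2, p3, mul_zero, add_zero]
  have hR : Rat6 τ (pullForm q P) F₀ 1 := ⟨hh, one_ne_zero, hP, fun x hx => by rw [hfix x hx]; exact hx,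
    fun v hv => ⟨-(pullForm q P v v) / (1 + 1), F₀.div_mem (F₀.neg_mem (hm v v hv hv)) (F₀.add_mem F₀.one_mem F₀.one_mem), by
      have hd := F₀.div_mem (F₀.neg_mem (hm v v hv hv)) (F₀.add_mem F₀.one_mem F₀.one_mem)
      rw [one_mul, map_one, one_mul, one_mul, hfix _ hd, one_add_one_eq_two]
      field_simp
      ring⟩,
    fun p hp => iso 2 p (by omega) hp, by simp; omega⟩
  refine maximal hF hn hf Nat.prime_two hcard P hR (Or.inl rfl) fun H hS hsm g hg e he hee he0 => ?_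
  refine quad_line_of hS hsm hn hcard hg he hee he0 fun v₁ v₂ h1 h2 => ?_
  obtain ⟨d, hd, hd0, hdd, hdp⟩ := iso 2 ![v₁, v₂] (by omega) (by intro i; fin_cases i; exacts [h1, h2])
  exact ⟨d, hd, hdd, hd0, hdp 0, hdp 1⟩

theorem odd_maximal (hF : Fintype.card F = q ^ 2) (hn : 6 ≤ n) {r : ℕ} (hr : r.Prime) (hro : Odd r)
    (F₀ : Subfield F) (hcard : Fintype.card F = Nat.card F₀ ^ r) (P : Matrix.GeneralLinearGroup (Fin n) F)
    (hP : Cfsg.Geo.IsFormRationalStructure (Cfsg.hermForm n F q) F₀ 1 P) :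
    Cfsg.Geo.IsMaximalIn (suGL n F q) (Cfsg.Geo.subfieldSubgroup F₀ P ⊓ suGL n F q) := by
  classical
  obtain ⟨τ, hτ, hf⟩ := exists_hermSigma hF n
  set q₀ := Nat.card F₀ with hq₀
  have hq₀1 : 1 < q₀ := Finite.one_lt_card
  obtain ⟨kk, hk⟩ := hro
  obtain ⟨s, hs⟩ : ∃ s, q = q₀ ^ kk * s := by
    have h2 : (q₀ ^ kk) ^ 2 ∣ q ^ 2 := ⟨q₀, by rw [← hF, hcard, hk, ← pow_mul, ← pow_succ]; ring_nf⟩
    exact (Nat.pow_dvd_pow_iff two_ne_zero).1 h2
  have hs2 : s ^ 2 = q₀ := by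
    have h1 : (q₀ ^ kk) ^ 2 * s ^ 2 = (q₀ ^ kk) ^ 2 * q₀ := by
      rw [← mul_pow, ← hs, ← hF, hcard, hk]; ring
    exact Nat.eq_of_mul_eq_mul_left (by positivity) h1
  have hpow : ∀ x : F₀, (x : F) ^ q = (x : F) ^ s := fun x => by
    have h1 : x ^ (q₀ ^ kk) = x := by
      rw [hq₀, Nat.card_eq_fintype_card]; exact FiniteField.pow_card_pow kk x
    rw [hs, pow_mul]
    exact congrArg (fun y : F₀ => (y : F) ^ s) h1
  have hF₀ : Fintype.card F₀ = s ^ 2 := by rw [hs2, hq₀, Nat.card_eq_fintype_card]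
  obtain ⟨τ₀, hτ₀, hf₀⟩ := exists_hermSigma (F := F₀) hF₀ n
  have hval : ∀ x : F₀, τ (x : F) = ((τ₀ x : F₀) : F) := fun x => by rw [hτ, hpow, hτ₀]; rfl
  have hne : ∃ x ∈ F₀, τ x ≠ x := by
    by_contra! hall
    exact hf₀.ne_refl (RingEquiv.ext fun x => Subtype.ext (by rw [← hval]; exact hall _ x.2))
  have hh := pullForm_unitary hf P
  have hm : ∀ u v, RatV F₀ u → RatV F₀ v → pullForm q P u v ∈ F₀ := fun u v hu hv => by
    simpa [pullForm] using hP u v hu hv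
  have hτm : ∀ x ∈ F₀, τ x ∈ F₀ := fun x hx => by rw [hτ]; exact F₀.pow_mem hx q
  have hσ₀ : (τ₀ : F₀ →+* F₀) ≠ RingHom.id F₀ := fun e =>
    hf₀.ne_refl (RingEquiv.ext fun x => RingHom.congr_fun e x)
  obtain ⟨ω, hω, hω'⟩ := hne
  obtain ⟨θ, hθ, hθ0⟩ : ∃ θ ∈ F₀, θ + τ θ ≠ 0 := by
    by_contra! hcon
    refine hω' ?_
    have h1 := hcon 1 F₀.one_mem
    rw [map_one] at h1
    linear_combination hcon ω hω - ω * h1
  have iso : ∀ (k : ℕ) (p : Fin k → Fin n → F), k + 1 < n → (∀ i, RatV F₀ (p i)) →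
      ∃ a, RatV F₀ a ∧ a ≠ 0 ∧ pullForm q P a a = 0 ∧ ∀ i, pullForm q P a (p i) = 0 := fun k p hk hp => by
    obtain ⟨x₁, hx₁, hx₁0, hx₁p⟩ := exists_rat_perp hh one_ne_zero hP p hp (by simp; omega)
    obtain ⟨x₂, hx₂, hx₂0, hx₂p⟩ := exists_rat_perp hh one_ne_zero hP (Fin.snoc p x₁) (fun i => by
      induction i using Fin.lastCases <;> simp [hx₁, hp]) (by simp; omega)
    have e21 : pullForm q P x₂ x₁ = 0 := by simpa using hx₂p (Fin.last k)
    have p2 : ∀ i, pullForm q P x₂ (p i) = 0 := fun i => by simpa using hx₂p i.castSucc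
    by_cases hA : pullForm q P x₁ x₁ = 0
    · exact ⟨x₁, hx₁, hx₁0, hA, hx₁p⟩
    by_cases hC : pullForm q P x₂ x₂ = 0
    · exact ⟨x₂, hx₂, hx₂0, hC, p2⟩
    obtain ⟨c, hc⟩ := CfsgLib.Geometry.exists_norm_eq hσ₀ hf₀.involutive
      (c := ⟨-pullForm q P x₂ x₂ / pullForm q P x₁ x₁,
        F₀.div_mem (F₀.neg_mem (hm _ _ hx₂ hx₂)) (hm _ _ hx₁ hx₁)⟩)
      (Subtype.ext (by
        show ((τ₀ _ : F₀) : F) = _
        rw [← hval]
        show τ (-pullForm q P x₂ x₂ / pullForm q P x₁ x₁) = _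
        rw [map_div₀, map_neg, ← hh.herm, ← hh.herm]))
    have hc' : (c : F) * τ c = -pullForm q P x₂ x₂ / pullForm q P x₁ x₁ := by
      rw [hval]; exact congrArg Subtype.val hc
    refine ⟨(c : F) • x₁ + x₂, (hx₁.smul c.2).addV hx₂, fun e => hC ?_, ?_, fun i => ?_⟩
    · have h3 := congrArg (fun y => pullForm q P y x₂) e
      simp only [hh.add_left, hh.smul_left, un_zero_left hh, hh.herm x₁ x₂, e21, map_zero, mul_zero, zero_add] at h3
      exact h3
    · simp only [hh.add_left, un_add_right hh, hh.smul_left, un_smul_right hh, e21, hh.herm x₁ x₂, map_zero,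
        mul_zero, add_zero, zero_add]
      rw [eq_div_iff hA] at hc'
      linear_combination hc'
    · simp only [hh.add_left, hh.smul_left, hx₁p, p2, mul_zero, add_zero]
  have hR : Rat6 τ (pullForm q P) F₀ 1 := ⟨hh, one_ne_zero, hP, hτm,
    fun v hv => ⟨-(pullForm q P v v) * θ / (θ + τ θ),
      F₀.div_mem (F₀.mul_mem (F₀.neg_mem (hm v v hv hv)) hθ) (F₀.add_mem hθ (hτm θ hθ)), by
      rw [one_mul, map_one, one_mul, one_mul, map_div₀, map_mul, map_neg, map_add, hf.involutive, ← hh.herm v v,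
        add_comm (τ θ)]
      field_simp
      ring⟩,
    fun p hp => iso 2 p (by omega) hp, by simp; omega⟩
  have hr2 : r ≠ 2 := by omega
  exact maximal hF hn hf hr hcard P hR (Or.inr fun p hp => iso 4 p (by omega) hp) fun H hS hsm g hg e he hee he0 =>
    hS.odd_line hsm hr hr2 hcard ⟨ω, hω, hω'⟩ rfl hg he hee he0

end CfsgLib.Maximal.Six
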