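import Cfsg.Agent.Lib.Maximal.UnSubSix.Siegel

/-!
With rational Siegel elements only, one rational isotropic line makes an element rational.
-/

set_option autoImplicit false
set_option linter.unusedSectionVars false
set_option linter.unusedSimpArgs false

namespace CfsgLib.Maximal.Six

open scoped Matrix

variable {F : Type*} [Field F] {ι : Type} [Fintype ι] [DecidableEq ι] {τ : F ≃+* F}
  {h : (ι → F) → (ι → F) → F} {F₀ : Subfield F} {ζ : F}

namespace Over

variable [Finite F] {H : Subgroup (GL ι F)} (hS : Over τ h F₀ ζ H)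
include hS

/-- One rational isotropic line is enough. -/
lemma rigid (hsm : Small τ h F₀ H) {g : GL ι F} (hg : g ∈ H) {c : F} (hc : c ≠ 0) {e : ι → F}
    (he : RatV F₀ e) (hee : h e e = 0) (he0 : e ≠ 0) (hline : RatV F₀ (c • (Units.val g *ᵥ e))) :
    RatM F₀ (c • Units.val g) := by
  classical
  have hR := hS.form
  have hf := hR.unit
  have hζ := hR.ne
  have hτc : τ c ≠ 0 := fun e0 => hc (τ.injective (by rw [e0, map_zero]))
  have hτζ : τ ζ ≠ 0 := fun e0 => hζ (τ.injective (by rw [e0, map_zero]))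
  have hgi := suH_iso (hS.le hg)
  set u := c • (Units.val g *ᵥ e) with hu
  have huu : h u u = 0 := by rw [hu, hf.smul_left, un_smul_right hf, hgi, hee]; simp
  have hu0 : u ≠ 0 := smul_ne_zero hc fun e0 => he0 (mulVec_inj g (show Units.val g *ᵥ e = Units.val g *ᵥ 0 by
    rw [Matrix.mulVec_zero]; exact e0))
  obtain ⟨f, P⟩ := hR.exists_hyp he hee he0
  obtain ⟨f', Q⟩ := hR.exists_hyp hline huu hu0
  have hge : Units.val g *ᵥ e = c⁻¹ • u := by rw [hu, inv_smul_smul₀ hc]
  -- images of orthogonal vectors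
  have img : ∀ v, RatV F₀ v → h v e = 0 → ∃ s : F, RatV F₀ ((τ c)⁻¹ • (Units.val g *ᵥ v) + s • u) := by
    intro v hv hve
    obtain ⟨t, ht, htt⟩ := hR.trace v hv
    have h1 : HasMap H (eMap h u ((τ c)⁻¹ • (Units.val g *ᵥ (ζ • v))) (c⁻¹ * (τ c)⁻¹ * (ζ * t))) :=
      (hS.eMap_conj (hS.eMap_mem he hee hv hve ht htt) hg).congr fun x => by
        rw [hge, hR.eMap_smul, map_inv₀]
    set w := (τ c)⁻¹ • (Units.val g *ᵥ (ζ • v)) with hw
    have hwu : h w u = 0 := by
      rw [hw, hu, hf.smul_left, un_smul_right hf, hgi, hf.smul_left, hve]; simp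
    have hval : c⁻¹ * (τ c)⁻¹ * (ζ * t) + τ (c⁻¹ * (τ c)⁻¹ * (ζ * t)) + h w w = 0 := by
      rw [hw, hf.smul_left, un_smul_right hf, hgi, hf.smul_left, un_smul_right hf, map_mul, map_mul, map_inv₀,
        map_inv₀, hf.involutive]
      linear_combination (c⁻¹ * (τ c)⁻¹) * htt
    have h2 := (hsm u w _ hline huu hu0 hwu hval h1 f' Q.right).sub Q.right
    refine ⟨c⁻¹ * (τ c)⁻¹ * t - τ ζ * h f' ((τ c)⁻¹ • (Units.val g *ᵥ v)), ?_⟩
    convert h2 using 1
    have hone := Q.one
    simp only [eMap, hw, Matrix.mulVec_smul, un_smul_right hf, map_inv₀, map_mul, hf.involutive, smul_smul]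
    match_scalars
    · field_simp
      linear_combination -hone
    · field_simp
      linear_combination -(t * hone)
    · ring
  have hν : c * τ c ∈ F₀ := by
    obtain ⟨a, b, -, ha, hb, Qab⟩ := P.exists_second hR
    obtain ⟨s₁, h1⟩ := img a ha.mem ha.perpL
    obtain ⟨s₂, h2⟩ := img b hb.mem hb.perpL
    have h3 := hR.rat _ _ h2 h1
    have hga : ∀ {y : ι → F}, h y e = 0 → h (Units.val g *ᵥ y) u = 0 := fun {y} hy => by
      rw [hu, un_smul_right hf, hgi, hy, mul_zero]
    simp only [hf.add_left, un_add_right hf, hf.smul_left, un_smul_right hf, hgi, huu, hga hb.perpL,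
      hR.skew0 (hga ha.perpL), mul_zero, add_zero, map_inv₀, hf.involutive] at h3
    have h4 := F₀.inv_mem h3
    convert h4 using 1
    have := Qab.one
    have hba := Qab.fu_ne
    field_simp
    linear_combination this
  set ν := c * τ c with hνd
  have hν0 : ν ≠ 0 := mul_ne_zero hc hτc
  have hντ : τ ν = ν := by rw [hνd, map_mul, hf.involutive, mul_comm]
  -- the partner of the image
  obtain ⟨y, hy⟩ := mulVec_surj g (c⁻¹ • ν • f')
  have hy : Units.val g *ᵥ y = c⁻¹ • ν • f' := hy
  have hye : h y e = h f e := by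
    rw [← hgi, hy, hge]
    simp only [hf.smul_left, un_smul_right hf, map_inv₀]
    have h1 := P.one
    have h2 := Q.one
    rw [hνd]
    field_simp
    exact mul_left_cancel₀ hζ (by rw [h1, h2])
  have hyy : h y y = 0 := by
    rw [← hgi, hy]; simp [hf.smul_left, un_smul_right hf, Q.isoR]
  set a₀ := h (y - f) f / h e f with ha₀
  set w := ζ • (y - f - a₀ • e) with hw
  have hwe : h w e = 0 := by
    rw [hw, hf.smul_left, hR.sub_smul_left, hR.sub_left, hye, hee]; ring
  have hwf : h (y - f - a₀ • e) f = 0 := by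
    rw [hR.sub_smul_left, ha₀, div_mul_cancel₀ _ (P.uf_ne hR), sub_self]
  have hval : ζ * a₀ + τ (ζ * a₀) + h w w = 0 := by
    have e1 : y = f + a₀ • e + ζ⁻¹ • w := by rw [hw, inv_smul_smul₀ hζ]; abel
    have hfw : h w f = 0 := by rw [hw, hf.smul_left, hwf, mul_zero]
    have h1 := P.one
    have h2 : τ ζ * h e f = 1 := by rw [hf.herm, ← map_mul, h1, map_one]
    rw [e1] at hyy
    simp only [hf.add_left, un_add_right hf, hf.smul_left, un_smul_right hf, hee, P.isoR, hwe, hfw,
      hR.skew0 hwe, hR.skew0 hfw, mul_zero, add_zero, zero_add, map_inv₀] at hyy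
    rw [map_mul]
    field_simp at hyy
    linear_combination hyy - (τ ζ * τ a₀) * h1 - (ζ * a₀) * h2
  obtain ⟨q, hq, eq⟩ := hR.exists_eMap hee hwe hval
  have hqf : Units.val q *ᵥ f = y := by
    have h1 : h f w = 0 := by rw [hw, un_smul_right hf, hR.skew0 hwf, mul_zero]
    rw [eq, eMap, h1, sub_zero, hw, smul_smul, mul_comm (ζ * a₀) (h f e), ← mul_assoc, mul_comm (h f e) ζ, P.one,
      one_mul, one_smul]
    abel
  have hqe : Units.val q *ᵥ e = e := by rw [eq, eMap, hee, hR.skew0 hwe]; simp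
  set G := g * q with hG
  have hGi : ∀ x, Units.val G *ᵥ x = Units.val g *ᵥ (Units.val q *ᵥ x) := fun x => by
    rw [hG, Units.val_mul, Matrix.mulVec_mulVec]
  have hGS : G ∈ suH h := mul_mem (hS.le hg) hq
  have hrat : RatM F₀ (c • Units.val G) := hR.ratM_of_rat fun x hx => by
    obtain ⟨hα, hβ⟩ := P.coeff_mem hR hx
    obtain ⟨pe, pf⟩ := P.proj hR x
    set α := h x f / h e f
    set β := h x e / h f e
    set p := x - α • e - β • f with hp
    have hpr : RatV F₀ p := (hx.sub (he.smul hα)).sub (P.right.smul hβ)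
    obtain ⟨s, hs⟩ := img p hpr pe
    set z := ν • ((τ c)⁻¹ • (Units.val g *ᵥ p) + s • u) with hz
    have hzr : RatV F₀ z := hs.smul hν
    have hzu : h z u = 0 := by
      rw [hz, hu, hf.smul_left, hf.add_left, hf.smul_left, hf.smul_left, un_smul_right hf, hgi, pe,
        un_smul_right hf, hf.smul_left, hgi, hee]
      ring
    have hGp : c • (Units.val G *ᵥ p) = z + (-(ν * s) - h p w) • u := by
      rw [hz, hGi, eq, eMap, pe, Matrix.mulVec_add, Matrix.mulVec_add, Matrix.mulVec_smul, Matrix.mulVec_smul, hge,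
        hνd]
      match_scalars <;> field_simp <;> ring
    have hpf' : h (c • (Units.val G *ᵥ p)) f' = 0 := by
      have h1 : h (Units.val G *ᵥ p) (Units.val G *ᵥ f) = 0 := by rw [suH_iso hGS]; exact pf
      rw [hGi f, hqf, hy, un_smul_right hf, un_smul_right hf] at h1
      have h2 := (mul_eq_zero.1 h1).resolve_left (by simpa using hc)
      rw [hf.smul_left, (mul_eq_zero.1 h2).resolve_left (by simpa using hν0), mul_zero]
    rw [hGp, hf.add_left, hf.smul_left (-(ν * s) - h p w)] at hpf'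
    have hlam : -(ν * s) - h p w = -(h z f' / h u f') := by
      have := Q.uf_ne hR
      field_simp
      linear_combination hpf'
    have hx' : (c • Units.val G) *ᵥ x = α • u + β • (ν • f') + (z + (-(h z f' / h u f')) • u) := by
      rw [← hlam, ← hGp, show x = α • e + β • f + p by rw [hp]; abel, Matrix.smul_mulVec, Matrix.mulVec_add,
        Matrix.mulVec_add, Matrix.mulVec_smul, Matrix.mulVec_smul, hGi e, hqe, hGi f, hqf, hy, hge, smul_add,
        smul_add, smul_comm c α, smul_comm c β, smul_inv_smul₀ hc, smul_inv_smul₀ hc]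
    rw [hx']
    exact ((hline.smul hα).addV ((Q.right.smul hν).smul hβ)).addV
      (hzr.addV (hline.smul (F₀.neg_mem (Q.coeff_mem hR hzr).1)))
  have hGH : G ∈ H := hS.mem G hGS ⟨c, hc, hrat⟩
  have hqH : q ∈ H := by simpa [hG] using mul_mem (inv_mem hg) hGH
  have hqr : RatM F₀ (Units.val q) := hR.ratM_of_rat fun x hx => by
    rw [eq]; exact hsm e w _ he hee he0 hwe hval ⟨q, hqH, eq⟩ x hx
  have h5 := hrat.mul (RatM.inv hqr)
  rwa [Matrix.smul_mul, hG, ← Units.val_mul, mul_inv_cancel_right] at h5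

end Over

end CfsgLib.Maximal.Six
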