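import Cfsg.Agent.Lib.Maximal.UnSubSix.Siegel

/-!
Parameters of pure Siegel elements at rational orthogonal pairs.
-/

set_option autoImplicit false
set_option linter.unusedSectionVars false
set_option linter.unusedSimpArgs false

namespace CfsgLib.Maximal.Six

open scoped Matrix

variable {F : Type*} [Field F] {ι : Type} [Fintype ι] [DecidableEq ι] {τ : F ≃+* F}
  {h : (ι → F) → (ι → F) → F} {F₀ : Subfield F} {ζ : F}

namespace Rat6

variable [Finite F] (hR : Rat6 τ h F₀ ζ)
include hR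

omit [Finite F] in
lemma pair_of_ne {u a d : ι → F} (hu : RatV F₀ u) (ha : RatV F₀ a) (huu : h u u = 0) (haa : h a a = 0)
    (hua : h u a = 0) (hu0 : u ≠ 0) (hud : h u d = 0) (had : h a d ≠ 0) : RatPair h F₀ u a :=
  ⟨hu, ha, huu, haa, hua, hu0, fun hmem => by
    obtain ⟨c, rfl⟩ := Submodule.mem_span_singleton.1 hmem
    exact had (by rw [hR.unit.smul_left, hud, mul_zero])⟩

omit [Finite F] in
lemma pair_swap {u a : ι → F} (P : RatPair h F₀ u a) : RatPair h F₀ a u where
  left := P.right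
  right := P.left
  isoL := P.isoR
  isoR := P.isoL
  orth := hR.skew0 P.orth
  ne := fun e => P.indep (e ▸ zero_mem _)
  indep := fun hmem => by
    obtain ⟨c, hc⟩ := Submodule.mem_span_singleton.1 hmem
    have hc0 : c ≠ 0 := fun e => P.ne (by rw [← hc, e, zero_smul])
    exact P.indep (Submodule.mem_span_singleton.2 ⟨c⁻¹, by rw [← hc, inv_smul_smul₀ hc0]⟩)

/-- An isotropic vector forming pairs with two given ones. -/
lemma exists_mid {u p : ι → F} (hu : RatV F₀ u) (hp : RatV F₀ p) (huu : h u u = 0) (hpp : h p p = 0) (hu0 : u ≠ 0)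
    (hp0 : p ≠ 0) : ∃ c, RatPair h F₀ u c ∧ RatPair h F₀ p c := by
  have hf := hR.unit
  by_cases hup : h u p = 0
  · by_cases hd : p ∈ Submodule.span F ({u} : Set (ι → F))
    · obtain ⟨s, rfl⟩ := Submodule.mem_span_singleton.1 hd
      have hs : s ≠ 0 := fun e => hp0 (by rw [e, zero_smul])
      obtain ⟨f, P⟩ := hR.exists_hyp hu huu hu0
      obtain ⟨c, hc, hc0, hcc, hcp⟩ := hR.iso_two ![u, f] (by intro i; fin_cases i; exacts [P.left, P.right])
      have hni := P.notMem_span hR hc0 (hcp 0) (hcp 1)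
      have hni' : c ∉ Submodule.span F ({u} : Set (ι → F)) := fun hm => hni
        (Submodule.span_mono (by intro x hx; exact ⟨0, (Set.mem_singleton_iff.1 hx).symm⟩) hm)
      refine ⟨c, ⟨hu, hc, huu, hcc, hR.skew0 (hcp 0), hu0, hni'⟩, ⟨hp, hc, hpp, hcc, ?_, hp0, ?_⟩⟩
      · rw [hf.smul_left, hR.skew0 (show h c u = 0 from hcp 0), mul_zero]
      · rw [Submodule.span_singleton_smul_eq (isUnit_iff_ne_zero.2 hs)]; exact hni'
    · refine ⟨u + p, ⟨hu, hu.addV hp, huu, ?_, ?_, hu0, fun hm => hd ?_⟩, ⟨hp, hu.addV hp, hpp, ?_, ?_, hp0, fun hm => ?_⟩⟩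
      · simp [hf.add_left, un_add_right hf, huu, hpp, hup, hR.skew0 hup]
      · rw [un_add_right hf, huu, hup, add_zero]
      · simpa using sub_mem hm (Submodule.mem_span_singleton_self u)
      · simp [hf.add_left, un_add_right hf, huu, hpp, hup, hR.skew0 hup]
      · rw [un_add_right hf, hR.skew0 hup, hpp, add_zero]
      · obtain ⟨s, hs⟩ := Submodule.mem_span_singleton.1 hm
        rcases eq_or_ne (s - 1) 0 with h1 | h1
        · rw [sub_eq_zero.1 h1, one_smul] at hs
          exact hu0 (add_eq_right.1 hs.symm)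
        · refine hd (Submodule.mem_span_singleton.2 ⟨(s - 1)⁻¹, ?_⟩)
          rw [show u = (s - 1) • p by rw [sub_smul, one_smul, hs]; abel, inv_smul_smul₀ h1]
  · obtain ⟨c, hc, hc0, hcc, hcp⟩ := hR.iso_two ![u, p] (by intro i; fin_cases i; exacts [hu, hp])
    exact ⟨c, hR.pair_swap (hR.pair_of_ne hc hu hcc huu (hcp 0) hc0 (hcp 1) hup),
      hR.pair_swap (hR.pair_of_ne hc hp hcc hpp (hcp 1) hc0 (hcp 0) fun e => hup (hR.skew0 e))⟩

end Rat6

namespace Over

variable [Finite F] {H : Subgroup (GL ι F)} (hS : Over τ h F₀ ζ H)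
include hS

/-- Two divisions leave a pure element along the centre. -/
lemma double {u a w : ι → F} {c : F} (P : RatPair h F₀ u a) (hw : h w u = 0) (hc : c + τ c + h w w = 0)
    (hm : HasMap H (eMap h u w c)) {s : F} (hs : s ∈ F₀) : KP h ζ H u a (s * h w a) := by
  have hR := hS.form
  have hf := hR.unit
  obtain ⟨f, Q, hfa⟩ := hR.exists_partner_perp (fun _ : Fin 1 => a) (fun _ => P.right) P.left P.isoL (fun _ => P.orth)
    (by rw [Set.range_const]; exact (hR.pair_swap P).indep)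
  have hau : h a u = 0 := hR.skew0 P.orth
  have haf : h a f = 0 := hR.skew0 (hfa 0)
  have hq : ∀ i, RatV F₀ (![u, f] i) := by intro i; fin_cases i; exacts [P.left, Q.right]
  obtain ⟨b, Qb, hb⟩ := hR.exists_partner_perp ![u, f] hq P.right P.isoR (by intro i; fin_cases i; exacts [hau, haf])
    (Q.notMem_span hR (hR.pair_swap P).ne hau haf)
  obtain ⟨v, hv, hv0, hvp⟩ := exists_rat_perp hf hR.ne hR.rat ![u, f, a, b]
    (by intro i; fin_cases i; exacts [P.left, Q.right, P.right, Qb.right])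
    (by rw [Fintype.card_fin]; exact Nat.lt_of_succ_le hR.dim)
  have hvu : h v u = 0 := hvp 0
  have hva : h v a = 0 := hvp 2
  have hvs : v ∉ Submodule.span F (Set.range ![u, a]) := fun hmem => by
    obtain ⟨k, hk⟩ := (Submodule.mem_span_range_iff_exists_fun F).1 hmem
    rw [Fin.sum_univ_two] at hk
    simp only [Matrix.cons_val_zero, Matrix.cons_val_one] at hk
    have h1 : h v f = 0 := hvp 1
    have h2 : h v b = 0 := hvp 3
    rw [← hk, hf.add_left, hf.smul_left, hf.smul_left, haf, mul_zero, add_zero] at h1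
    rw [← hk, hf.add_left, hf.smul_left, hf.smul_left, hR.skew0 (show h b u = 0 from hb 0), mul_zero, zero_add] at h2
    exact hv0 (by rw [← hk, (mul_eq_zero.1 h1).resolve_right (Q.uf_ne hR),
      (mul_eq_zero.1 h2).resolve_right (Qb.uf_ne hR), zero_smul, zero_smul, add_zero])
  obtain ⟨v', hv', hv'p, hv'v⟩ := hR.eval ![u, a] (by intro i; fin_cases i; exacts [P.left, P.right]) hv hvs
  have hv'u : h v' u = 0 := hv'p 0
  have hv'a : h v' a = 0 := hv'p 1
  -- elements centred at the second vector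
  have step : ∀ {y : ι → F}, RatV F₀ y → h y u = 0 → h y a = 0 → ∀ {w : ι → F} {c : F}, h w u = 0 →
      c + τ c + h w w = 0 → HasMap H (eMap h u w c) → ∃ t : F, ∃ D : ι → F,
        D = (ζ * t * h w a - h w (ζ • y)) • a + h w a • ζ • y ∧
          h D u = 0 ∧ h w D + τ (h w D) + h D D = 0 ∧ HasMap H (eMap h u D (h w D)) := by
    intro y hy hyu hya w c hw hc hm
    obtain ⟨t, ht, htt⟩ := hR.trace y hy
    obtain ⟨g, hg, eg⟩ := hS.eMap_mem P.right P.isoR hy hya ht htt
    have hgu : Units.val g *ᵥ u = u := by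
      rw [eg, eMap, P.orth, un_smul_right hf, hR.skew0 hyu]; simp
    have h1 := hS.eMap_diff P.isoL hw hc hm hg hgu
    refine ⟨t, Units.val g *ᵥ w - w, ?_, ?_, ?_, h1⟩
    · rw [eg, eMap]; abel
    · have : h (Units.val g *ᵥ w) u = 0 := by
        conv_lhs => arg 2; rw [← hgu]
        rw [suH_iso (hS.le hg)]; exact hw
      rw [hR.sub_left, this, hw, sub_zero]
    · simp only [hR.sub_left, hR.sub_right, map_sub, suH_iso (hS.le hg), ← hf.herm]
      ring
  obtain ⟨t, D, hD, hDu, hDc, hDm⟩ := step hv hvu hva hw hc hm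
  obtain ⟨t', D', hD', hD'u, -, hD'm⟩ := step (hv'.smul (F₀.neg_mem (hR.tau_mem s hs)))
    (by rw [hf.smul_left, hv'u, mul_zero]) (by rw [hf.smul_left, hv'a, mul_zero]) hDu hDc hDm
  have hDa : h D a = 0 := by
    rw [hD]; simp only [hf.add_left, hf.smul_left, P.isoR, hva, mul_zero, add_zero]
  have hvv' : τ ζ * h v v' = 1 := by rw [hf.herm, ← map_mul, hv'v, map_one]
  have e : D' = (ζ * (s * h w a)) • a := by
    rw [hD', hDa, hD]
    simp only [un_smul_right hf, hf.add_left, hf.smul_left, hR.skew0 hv'a, map_neg, hf.involutive, mul_zero,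
      zero_smul, add_zero, zero_add]
    congr 1
    linear_combination (ζ * s * h w a) * hvv'
  rw [e] at hD'm
  rw [un_smul_right hf, hDa, mul_zero] at hD'm
  exact hD'm

lemma step_ne {u a a' : ι → F} {x : F} (P : RatPair h F₀ u a) (P' : RatPair h F₀ u a') (hne : h a a' ≠ 0)
    (hx : KP h ζ H u a x) {s : F} (hs : s ∈ F₀) : KP h ζ H u a' (s * x) := by
  have hR := hS.form
  have hf := hR.unit
  have h1 := hS.double P' (w := (ζ * x) • a) (c := 0) (by rw [hf.smul_left, hR.skew0 P.orth, mul_zero])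
    (by rw [hf.smul_left, un_smul_right hf, P.isoR]; simp) hx
    (F₀.mul_mem hs (F₀.inv_mem (hR.rat _ _ P.right P'.right)))
  rwa [hf.smul_left, show s * (ζ * h a a')⁻¹ * (ζ * x * h a a') = s * x by
    have := hR.ne; field_simp] at h1

lemma step_first {u a a' : ι → F} {x : F} (P : RatPair h F₀ u a) (P' : RatPair h F₀ u a') (hx : KP h ζ H u a x)
    {s : F} (hs : s ∈ F₀) : KP h ζ H u a' (s * x) := by
  have hR := hS.form
  have hf := hR.unit
  by_cases hne : h a a' = 0
  swap
  · exact hS.step_ne P P' hne hx hs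
  have hone : (1 : F) ∈ F₀ := F₀.one_mem
  have partner : ∀ {y : ι → F}, RatPair h F₀ u y → ∃ b, RatPair h F₀ u b ∧ h b u = 0 ∧ Hyp h F₀ ζ y b := by
    intro y Py
    obtain ⟨b, Qb, hb⟩ := hR.exists_partner_perp (fun _ : Fin 1 => u) (fun _ => P.left) Py.right Py.isoR
      (fun _ => hR.skew0 Py.orth) (by rw [Set.range_const]; exact Py.indep)
    exact ⟨b, hR.pair_of_ne P.left Qb.right P.isoL Qb.isoR (hR.skew0 (hb 0)) P.ne Py.orth Qb.fu_ne, hb 0, Qb⟩
  obtain ⟨b, Pb, hbu, Qb⟩ := partner P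
  obtain ⟨b', Pb', hb'u, Qb'⟩ := partner P'
  by_cases h1 : h b a' = 0
  swap
  · exact hS.step_ne Pb P' h1 (by simpa using hS.step_ne P Pb (Qb.uf_ne hR) hx hone) hs
  by_cases h2 : h b' a = 0
  swap
  · exact hS.step_ne Pb' P' Qb'.fu_ne
      (by simpa using hS.step_ne P Pb' (fun e => h2 (hR.skew0 e)) hx hone) hs
  obtain ⟨t, ht, htt⟩ := hR.trace (b + b') (Qb.right.addV Qb'.right)
  set y := b + b' + t • a with hy
  have hya' : h y a' = h b' a' := by
    rw [hy, hf.add_left, hf.add_left, hf.smul_left, h1, hne, mul_zero, add_zero, zero_add]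
  have hyy : h y y = 0 := by
    have e1 : ζ * h b a = 1 := Qb.one
    have e2 : τ ζ * h a b = 1 := by rw [hf.herm, ← map_mul, e1, map_one]
    rw [map_mul] at htt
    simp only [hf.add_left, un_add_right hf] at htt
    simp only [hy, hf.add_left, un_add_right hf, hf.smul_left, un_smul_right hf, P.isoR, h2, hR.skew0 h2, mul_zero,
      add_zero]
    refine (mul_eq_zero.1 (?_ : ζ * τ ζ * _ = 0)).resolve_left
      (mul_ne_zero hR.ne (fun e0 => hR.ne (τ.injective (by rw [e0, map_zero]))))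
    linear_combination htt + τ ζ * τ t * e1 + ζ * t * e2
  have hyu : h y u = 0 := by
    rw [hy, hf.add_left, hf.add_left, hf.smul_left, hbu, hb'u, hR.skew0 P.orth]; simp
  have Py : RatPair h F₀ u y := hR.pair_of_ne P.left ((Qb.right.addV Qb'.right).addV (P.right.smul ht)) P.isoL hyy
    (hR.skew0 hyu) P.ne P'.orth (by rw [hya']; exact Qb'.fu_ne)
  have hay : h a y = h a b := by
    rw [hy, un_add_right hf, un_add_right hf, un_smul_right hf, hR.skew0 h2, P.isoR, mul_zero, add_zero, add_zero]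
  exact hS.step_ne Py P' (by rw [hya']; exact Qb'.fu_ne) (by
    simpa using hS.step_ne P Py (by rw [hay]; exact Qb.uf_ne hR) hx hone) hs

/-- A parameter at one pair occurs at all pairs. -/
lemma transport {u a p q : ι → F} {x : F} (P : RatPair h F₀ u a) (Q : RatPair h F₀ p q) (hx : KP h ζ H u a x)
    {s : F} (hs : s ∈ F₀) : KP h ζ H p q (s * x) := by
  have hR := hS.form
  obtain ⟨c, Puc, Ppc⟩ := hR.exists_mid P.left Q.left P.isoL Q.isoL P.ne Q.ne
  have h1 := hS.KP_swap (hS.step_first P Puc hx F₀.one_mem)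
  have h2 := hS.KP_swap (hS.step_first (hR.pair_swap Puc) (hR.pair_swap Ppc) h1 F₀.one_mem)
  have h3 := hS.step_first Ppc Q h2 hs
  rwa [one_mul, one_mul, map_mul, map_neg, map_div₀, hR.unit.involutive, hR.unit.involutive,
    show -(τ ζ / ζ) * (-(ζ / τ ζ) * x) = x by
      have := hR.ne
      have hτζ : τ ζ ≠ 0 := fun e => hR.ne (τ.injective (by rw [e, map_zero]))
      field_simp] at h3

/-- A parameter outside the subfield at one pair makes all parameters occur. -/
lemma all_params [Fintype F] {r : ℕ} (hr : r.Prime) (hcard : Fintype.card F = Nat.card F₀ ^ r)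
    (hfour : r = 2 ∨ ∀ p : Fin 4 → ι → F, (∀ i, RatV F₀ (p i)) →
      ∃ a, RatV F₀ a ∧ a ≠ 0 ∧ h a a = 0 ∧ ∀ i, h a (p i) = 0)
    {u₀ a₀ : ι → F} (P₀ : RatPair h F₀ u₀ a₀) {x₀ : F} (hx₀F : x₀ ∉ F₀) (hx₀ : KP h ζ H u₀ a₀ x₀) :
    ∀ (x : F) (u a : ι → F), RatPair h F₀ u a → KP h ζ H u a x := by
  classical
  have hR := hS.form
  have hf := hR.unit
  let A : Submodule F₀ F :=
    { carrier := {x | ∀ u a, RatPair h F₀ u a → KP h ζ H u a x}
      zero_mem' := fun u a P => hS.KP_rat P.left P.isoL P.right P.isoR (hR.skew0 P.orth) F₀.zero_mem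
      add_mem' := fun hx hy u a P => hS.KP_add P.isoL P.isoR (hR.skew0 P.orth) (hx u a P) (hy u a P)
      smul_mem' := fun s x hx u a P => hS.transport P P (hx u a P) s.2 }
  have h1A : (1 : F) ∈ A := fun u a P => hS.KP_rat P.left P.isoL P.right P.isoR (hR.skew0 P.orth) F₀.one_mem
  have hx₀A : x₀ ∈ A := fun u a P => by simpa using hS.transport P₀ P hx₀ F₀.one_mem
  have hscal : ∀ {s x : F}, s ∈ F₀ → x ∈ A → s * x ∈ A := fun {s x} hs hx => A.smul_mem ⟨s, hs⟩ hx
  have hfr : Module.finrank F₀ F = r := by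
    have h1 := Module.card_eq_pow_finrank (K := F₀) (V := F)
    rw [hcard, Nat.card_eq_fintype_card] at h1
    exact (Nat.pow_right_injective Fintype.one_lt_card h1).symm
  suffices hA : A = ⊤ from fun x => (hA ▸ Submodule.mem_top : x ∈ A)
  rcases hfour with rfl | hfour
  · have hli : LinearIndependent F₀ ![(1 : F), x₀] := (LinearIndependent.pair_iff' one_ne_zero).2 fun c hc => hx₀F (by
      rw [← hc, Subfield.smul_def, smul_eq_mul, mul_one]; exact c.2)
    refine Submodule.eq_top_of_finrank_eq (le_antisymm A.finrank_le ?_)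
    have h1 := Submodule.finrank_mono (Submodule.span_le.2 (by
      rintro _ ⟨i, rfl⟩; fin_cases i; exacts [h1A, hx₀A] : Set.range ![(1 : F), x₀] ⊆ A))
    rw [finrank_span_eq_card hli, Fintype.card_fin] at h1
    omega
  have htau : ∀ {x}, x ∈ A → τ x ∈ A := fun {x} hx u a P => by
    have h1 := hS.transport P P (hS.KP_swap (hx a u (hR.pair_swap P))) (F₀.inv_mem (F₀.neg_mem hR.eps_mem))
    rwa [inv_mul_cancel_left₀ (neg_ne_zero.2 hR.eps_ne)] at h1
  obtain ⟨u, hu, huu, hu0⟩ := hR.exists_iso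
  obtain ⟨f, Q⟩ := hR.exists_hyp hu huu hu0
  obtain ⟨a, b, ha0, ha, hb, Qab⟩ := Q.exists_second hR
  obtain ⟨d, hd, hd0, hdd, hdp⟩ := hfour ![u, f, a, b]
    (by intro i; fin_cases i; exacts [hu, Q.right, ha.mem, hb.mem])
  have hdu : h d u = 0 := hdp 0
  have Pua : RatPair h F₀ u a := hR.pair_of_ne hu ha.mem huu ha.iso (hR.skew0 ha.perpL) hu0 (hR.skew0 hb.perpL)
    (Qab.uf_ne hR)
  have Pdb : RatPair h F₀ d b := hR.pair_of_ne hd hb.mem hdd hb.iso (hdp 3) hd0 (hdp 2) Qab.fu_ne
  have Pdu : RatPair h F₀ d u := hR.pair_of_ne hd hu hdd huu hdu hd0 (hdp 1) (Q.uf_ne hR)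
  have prod : ∀ {x y : F}, x ∈ A → y ∈ A → τ x * y ∈ A := by
    intro x y hx hy
    obtain ⟨g, hg, eg⟩ := hx u a Pua
    have hgd : Units.val g *ᵥ d = d := by
      rw [eg, eMap, hdu, un_smul_right hf, show h d a = 0 from hdp 2]; simp
    have hgb : Units.val g *ᵥ b = b + (-(τ ζ / ζ) * τ x) • u := by
      rw [eg, eMap, hb.perpL, zero_smul, add_zero, un_smul_right hf, map_mul]
      congr 2
      have := hR.ne
      field_simp
      linear_combination -(τ ζ * τ x) * Qab.one
    have h1 := hS.eMap_conj (hy d b Pdb) hg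
    rw [hgd, Matrix.mulVec_smul, hgb, smul_add, smul_smul] at h1
    have hbd : h b d = 0 := hR.skew0 (show h d b = 0 from hdp 3)
    have h2 := hS.eMap_add hdd
      (by rw [hf.add_left, hf.smul_left, hf.smul_left, hbd, hR.skew0 hdu]; simp)
      (by rw [← neg_one_smul F ((ζ * y) • b), hf.smul_left, hf.smul_left, hbd]; simp) h1
      (hS.eMap_neg hdd (by rw [hf.smul_left, hbd, mul_zero]) (by rw [hf.smul_left, un_smul_right hf, hb.iso]; simp)
        (hy d b Pdb))
    rw [← neg_one_smul F ((ζ * y) • b), hf.smul_left, hf.smul_left, un_add_right hf, un_smul_right hf,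
      un_smul_right hf, hb.iso, hb.perpL, map_zero] at h2
    have h3 : KP h ζ H d u (-(τ ζ / ζ) * (τ x * y)) := by
      refine h2.congr fun z => ?_
      rw [KP] at *
      congr 1 <;> [skip; simp]
      module
    intro p q P
    have h4 := hS.transport Pdu P h3 (F₀.inv_mem (F₀.neg_mem hR.eps_mem))
    rwa [inv_mul_cancel_left₀ (neg_ne_zero.2 hR.eps_ne)] at h4
  let B : Subalgebra F₀ F :=
    { carrier := A
      one_mem' := h1A
      zero_mem' := A.zero_mem
      add_mem' := A.add_mem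
      mul_mem' := fun {x y} hx hy => by
        have := prod (htau hx) hy
        rwa [hf.involutive] at this
      algebraMap_mem' := fun s => by
        have := hscal s.2 h1A
        rwa [mul_one] at this }
  haveI := Subalgebra.isSimpleOrder_of_finrank_prime F₀ F (hfr ▸ hr)
  rcases eq_bot_or_eq_top B with hB | hB
  · obtain ⟨x, hx⟩ := Algebra.mem_bot.1 (hB ▸ (hx₀A : x₀ ∈ B) : x₀ ∈ (⊥ : Subalgebra F₀ F))
    exact absurd (hx ▸ x.2) hx₀F
  · exact eq_top_iff.2 fun x _ => (show x ∈ B from hB ▸ Algebra.mem_top)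

end Over

end CfsgLib.Maximal.Six
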